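import Mathlib
import Cfsg.Agent.Lib.OTI2.Defs
import Cfsg.Agent.Lib.FT.OddOrder
import Cfsg.Agent.Lib.SylNum.Basic
import Cfsg.Agent.Lib.Perm.MultiTransDiag

/-! Basic facts on TI-pairs (package BAS1).  See `plans/OTI2.md`. -/

set_option autoImplicit false
set_option linter.unusedSectionVars false

namespace CfsgLib.OTI2

open Subgroup CfsgLib.Tech

universe u

variable {G : Type u} [Group G] [Finite G] {T T' K L S C D M : Subgroup G}

theorem ti_cj (h : ∀ g : G, ∀ a ∈ T, a ≠ 1 → g * a * g⁻¹ ∈ T → g ∈ normalizer (T : Set G)) (c : G) :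
    ∀ g : G, ∀ a ∈ cj c T, a ≠ 1 → g * a * g⁻¹ ∈ cj c T → g ∈ normalizer (cj c T : Set G) := by
  intro g a ha h1 hg
  rw [← cj_normalizer, mem_cj]
  refine h _ (c⁻¹ * a * c) (mem_cj.1 ha) (fun e => h1 ?_) ?_
  · calc a = c * (c⁻¹ * a * c) * c⁻¹ := by group
      _ = 1 := by rw [e]; group
  · have := mem_cj.1 hg
    convert this using 1
    group

theorem TP.symm (h : TP T T') : TP T' T := by
  obtain ⟨g, rfl⟩ := h.conj
  exact ⟨h.ne.symm, ⟨g⁻¹, cj_inv_cj g T⟩, ti_cj h.ti g⟩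

theorem TP.of_cj (h : TP T T') {a b : G} (hne : Tech.cj a T ≠ Tech.cj b T) :
    TP (Tech.cj a T) (Tech.cj b T) :=
  ⟨hne, ⟨b * a⁻¹, by rw [cj_mul, cj_inv_cj]⟩, ti_cj h.ti a⟩

theorem TP.cj (h : TP T T') (g : G) : TP (cj g T) (cj g T') := by
  obtain ⟨c, rfl⟩ := h.conj
  rw [← cj_mul]
  exact h.of_cj fun e => h.ne (cj_injective g (by rw [e, cj_mul]))

theorem TP.eq_one (h : TP T T') {a : G} (ha : a ∈ T) (ha' : a ∈ T') : a = 1 := by
  by_contra h1
  obtain ⟨g, rfl⟩ := h.conj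
  have := h.ti g⁻¹ a ha h1 (by simpa using mem_cj.1 ha')
  exact h.ne (mem_normalizer_iff_cj.1 (by simpa using inv_mem this)).symm

theorem TP.comm (h : TP T T') {k l : G} (hk : k ∈ KK T T') (hl : l ∈ KK T' T) :
    k * l = l * k := by
  have h1 : k * l * k⁻¹ * l⁻¹ ∈ T' := mul_mem (conj_mem_of_mem_normalizer hk.2 hl.1) (inv_mem hl.1)
  have h2 : k * l * k⁻¹ * l⁻¹ ∈ T := by
    have := mul_mem hk.1 (conj_mem_of_mem_normalizer hl.2 (inv_mem hk.1))
    simpa [mul_assoc] using this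
  have := h.eq_one h2 h1
  calc k * l = k * l * k⁻¹ * l⁻¹ * (l * k) := by group
    _ = l * k := by rw [this, one_mul]

/-- the centraliser of a nontrivial element of `T'` normalises `T'` -/
theorem TP.mem_normalizer (h : TP T T') {l g : G} (hl : l ∈ T') (h1 : l ≠ 1)
    (hc : g * l = l * g) : g ∈ normalizer (T' : Set G) :=
  h.symm.ti g l hl h1 (by rw [hc, mul_inv_cancel_right]; exact hl)

theorem TP.mem_KK_of_comm (h : TP T T') {l a : G} (hl : l ∈ T') (h1 : l ≠ 1) (ha : a ∈ T)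
    (hc : a * l = l * a) : a ∈ KK T T' := ⟨ha, h.mem_normalizer hl h1 hc⟩

theorem cj_KK (g : G) (T T' : Subgroup G) : cj g (KK T T') = KK (cj g T) (cj g T') := by
  rw [cj_inf, cj_normalizer]

theorem mem_sup_of_norm {A B : Subgroup G} (h : B ≤ normalizer (A : Set G)) {x : G} :
    x ∈ A ⊔ B ↔ ∃ a ∈ A, ∃ b ∈ B, a * b = x := by
  rw [← SetLike.mem_coe, coe_mul_of_right_le_normalizer_left A B h]
  exact Set.mem_mul

theorem le_norm_of_comm {A B : Subgroup G} (h : ∀ a ∈ A, ∀ b ∈ B, a * b = b * a) :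
    B ≤ normalizer (A : Set G) := fun b hb =>
  mem_normalizer_of_forall fun a ha => by rw [← h a ha b hb, mul_inv_cancel_right]; exact ha

/-- the `φ_u`-argument -/
theorem TP.sylow_or_card_le (h : TP T T') (hL : L ≤ KK T' T) (h2 : IsPGroup 2 L) (hM : M ≤ T)
    (hn : L ≤ normalizer (M : Set G)) {Q : Subgroup G} (hQ : IsSylowIn 2 Q (M ⊓ KK T T')) :
    IsSylowIn 2 Q M ∨ Nat.card L ≤ Nat.card Q := by
  have hc : ∀ a ∈ Q, ∀ b ∈ L, a * b = b * a := fun a ha b hb => h.comm (hQ.le ha).2 (hL hb)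
  have hQM : Q ≤ M := hQ.le.trans inf_le_left
  obtain ⟨S, hS, hE⟩ := exists_isSylowIn_ge
    (IsPGroup.to_sup_of_normal_left' hQ.pgroup h2 (le_norm_of_comm hc)) (sup_le_sup_right hQM L)
  have hST : IsSylowIn 2 (S ⊓ M) M := by
    have := hS.inf_of_le_normalizer (N := M) (sup_le le_normalizer hn)
    rwa [inf_eq_right.2 (le_sup_left : M ≤ M ⊔ L)] at this
  have hEM : ∀ e ∈ Q ⊔ L, e ∈ M → e ∈ Q := fun e he hm => by
    obtain ⟨a, ha, b, hb, rfl⟩ := (mem_sup_of_norm (le_norm_of_comm hc)).1 he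
    have : b = 1 := h.eq_one (hM ((Subgroup.mul_mem_cancel_left _ (hQM ha)).1 hm)) (hL hb).1
    simpa [this] using ha
  by_cases hlt : S ≤ Q ⊔ L
  · left
    have : S ⊓ M = Q := le_antisymm (fun e he => hEM e (hlt he.1) he.2)
      (le_inf (le_sup_left.trans hE) hQM)
    rwa [this] at hST
  right
  obtain ⟨x, hx, hxE, hxn⟩ := exists_mem_normalizer_of_lt hS.pgroup (lt_of_le_not_ge hE hlt)
  obtain ⟨m, hm, l, hl, rfl⟩ := (mem_sup_of_norm hn).1 (hS.le hx)
  have hlE : l ∈ Q ⊔ L := mem_sup_right hl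
  have hmS : m ∈ S := (Subgroup.mul_mem_cancel_right _ (hE hlE)).1 hx
  have hmn : m ∈ normalizer ((Q ⊔ L : Subgroup G) : Set G) :=
    (Subgroup.mul_mem_cancel_right _ (le_normalizer hlE)).1 hxn
  have hmQ : m ∉ Q := fun e => hxE (mul_mem (mem_sup_left e) hlE)
  refine Nat.card_le_card_of_injective (fun b : L => (⟨m * b * m⁻¹ * (b : G)⁻¹, hEM _
    (mul_mem (conj_mem_of_mem_normalizer hmn (mem_sup_right b.2)) (inv_mem (mem_sup_right b.2))) ?_⟩ : Q))
    fun a b e => ?_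
  · have := mul_mem hm (conj_mem_of_mem_normalizer (hn b.2) (inv_mem hm))
    simpa [mul_assoc] using this
  have e' : m * a * m⁻¹ * (a : G)⁻¹ = m * b * m⁻¹ * (b : G)⁻¹ := congrArg Subtype.val e
  by_contra hab
  have h1 : (b : G)⁻¹ * a ≠ 1 := fun e => hab (Subtype.ext (inv_mul_eq_one.1 e).symm)
  have hk : m ∈ KK T T' := h.mem_KK_of_comm (hL (mul_mem (inv_mem b.2) a.2)).1 h1 (hM hm) (by
    calc m * ((b : G)⁻¹ * a) = m * (b : G)⁻¹ * m⁻¹ * (m * a * m⁻¹ * (a : G)⁻¹) * a * m := by group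
      _ = (b : G)⁻¹ * a * m := by rw [e']; group)
  have := hQ.eq_of_le (Q := S ⊓ (M ⊓ KK T T')) (hS.pgroup.to_le inf_le_left)
    (le_inf (le_sup_left.trans hE) hQ.le) inf_le_right
  exact hmQ (this ▸ ⟨hmS, hm, hk⟩)

theorem TP.card_le (h : TP T T') (hK : IsSylowIn 2 K (KK T T')) (hL : L ≤ KK T' T)
    (h2 : IsPGroup 2 L) : Nat.card L ≤ Nat.card K := by
  rcases h.sylow_or_card_le hL h2 le_rfl (hL.trans inf_le_right)
    (by rwa [inf_eq_right.2 inf_le_left]) with h1 | h1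
  · obtain ⟨g, rfl⟩ := h.conj
    rw [← card_cj g K]
    exact (h1.cj g).card_le h2 (hL.trans inf_le_left)
  · exact h1

theorem TP.exists_sy (h : TP T T') (hev : ∃ k ∈ KK T T', orderOf k = 2) :
    ∃ K L, Sy T T' K L := by
  obtain ⟨k, hk, h2⟩ := hev
  obtain ⟨K, hK, hkK⟩ := exists_isSylowIn_ge (p := 2) (Q := zpowers k)
    (isPGroup_zpowers_iff.2 ⟨1, h2⟩) ((zpowers_le).2 hk)
  obtain ⟨L, hL⟩ := exists_isSylowIn 2 (KK T' T)
  refine ⟨K, L, h, hK, hL, fun e => ?_⟩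
  have : k = 1 := by simpa [e] using hkK (mem_zpowers k)
  simp [this] at h2

theorem Sy.card_eq (h : Sy T T' K L) : Nat.card K = Nat.card L :=
  le_antisymm (h.toTP.symm.card_le h.sL h.sK.le h.sK.pgroup) (h.toTP.card_le h.sK h.sL.le h.sL.pgroup)

theorem Sy.symm (h : Sy T T' K L) : Sy T' T L K :=
  ⟨h.toTP.symm, h.sL, h.sK, fun e => h.neK (card_eq_one.1 (by rw [h.card_eq, e, card_bot]))⟩

theorem Sy.comm (h : Sy T T' K L) {k l : G} (hk : k ∈ K) (hl : l ∈ L) : k * l = l * k :=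
  h.toTP.comm (h.sK.le hk) (h.sL.le hl)

theorem Sy.mem_sup (h : Sy T T' K L) {e : G} :
    e ∈ K ⊔ L ↔ ∃ k ∈ K, ∃ l ∈ L, k * l = e :=
  mem_sup_of_norm (le_norm_of_comm fun _ ha _ hb => h.comm ha hb)

theorem Sy.mem_of_mem_sup (h : Sy T T' K L) {e : G} (he : e ∈ K ⊔ L) (hT : e ∈ T) : e ∈ K := by
  obtain ⟨a, ha, b, hb, rfl⟩ := h.mem_sup.1 he
  have : b = 1 := h.toTP.eq_one ((Subgroup.mul_mem_cancel_left _ (h.sK.le ha).1).1 hT) (h.sL.le hb).1
  simpa [this] using ha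

theorem Sy.card_sup (h : Sy T T' K L) : Nat.card (K ⊔ L : Subgroup G) = Nat.card K ^ 2 := by
  rw [sq]
  nth_rewrite 2 [h.card_eq]
  rw [← Nat.card_prod]
  refine (Nat.card_congr (Equiv.ofBijective (fun p : K × L =>
    (⟨p.1 * p.2, mul_mem (mem_sup_left p.1.2) (mem_sup_right p.2.2)⟩ : (K ⊔ L : Subgroup G)))
    ⟨fun p q e => ?_, fun e => ?_⟩)).symm
  · have e' : (p.1 : G) * p.2 = q.1 * q.2 := congrArg Subtype.val e
    have e2 : (q.1 : G)⁻¹ * p.1 = q.2 * (p.2 : G)⁻¹ := by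
      rw [inv_mul_eq_iff_eq_mul, ← mul_assoc, ← e', mul_inv_cancel_right]
    have h1 : (q.1 : G)⁻¹ * p.1 = 1 := h.toTP.eq_one (h.sK.le (mul_mem (inv_mem q.1.2) p.1.2)).1
      (e2 ▸ (h.sL.le (mul_mem q.2.2 (inv_mem p.2.2))).1)
    exact Prod.ext (Subtype.ext (inv_mul_eq_one.1 h1).symm)
      (Subtype.ext (mul_inv_eq_one.1 (e2 ▸ h1)).symm)
  · obtain ⟨a, ha, b, hb, e'⟩ := h.mem_sup.1 e.2
    exact ⟨(⟨a, ha⟩, ⟨b, hb⟩), Subtype.ext e'⟩

theorem Sy.sylow_symm (h : Sy T T' K L) (hK : IsSylowIn 2 K T) : IsSylowIn 2 L T' := by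
  obtain ⟨g, e⟩ := h.conj
  have := hK.cj g
  rw [e] at this
  exact this.of_card_le h.sL.pgroup (h.sL.le.trans inf_le_left) (by rw [card_cj, h.card_eq])

theorem sylow_inf (h : Sy T T' K L) (hS : IsSylowIn 2 S (T ⊔ L)) : IsSylowIn 2 (S ⊓ T) T := by
  have := hS.inf_of_le_normalizer (N := T) (sup_le le_normalizer (h.sL.le.trans inf_le_right))
  rwa [inf_eq_right.2 (le_sup_left : T ≤ T ⊔ L)] at this

theorem Sy.exists_c2 (h : Sy T T' K L) (hK : ¬ IsSylowIn 2 K T) : ∃ S, C2 T T' K L S := by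
  have hKT : K ≤ T := h.sK.le.trans inf_le_left
  obtain ⟨S, hS, hE⟩ := exists_isSylowIn_ge (IsPGroup.to_sup_of_normal_left' h.sK.pgroup h.sL.pgroup
    (le_norm_of_comm fun _ ha _ hb => h.comm ha hb)) (sup_le_sup_right hKT L)
  refine ⟨S, h, hS, le_sup_left.trans hE, le_sup_right.trans hE, fun hle => hK ?_⟩
  have := sylow_inf h hS
  rwa [← this.eq_of_le h.sK.pgroup hle hKT] at this

theorem C2.not_sylow (h : C2 T T' K L S) : ¬ IsSylowIn 2 K T := fun hK =>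
  h.nle (hK.eq_of_le (h.sS.pgroup.to_le inf_le_left)
    (le_inf h.leK (h.sK.le.trans inf_le_left)) inf_le_right).le

theorem C2.exists_symm (h : C2 T T' K L S) : ∃ S', C2 T' T L K S' :=
  h.toSy.symm.exists_c2 fun e => h.not_sylow (h.toSy.symm.sylow_symm e)

theorem NS.cj (h : NS T) (g : G) : NS (cj g T) := by
  have := h.simple
  refine ⟨(cjEquiv g T).symm.isSimpleGroup, fun hc => h.ncomm ⟨⟨fun a b => (cjEquiv g T).injective ?_⟩⟩⟩
  rw [map_mul, map_mul, hc.is_comm.comm]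

theorem NS.of_tp (h : NS T) (h' : TP T T') : NS T' := by
  obtain ⟨g, rfl⟩ := h'.conj
  exact h.cj g

theorem NS.normal (h : NS T) {R : Subgroup G} (hR : R ≤ T) (hn : T ≤ normalizer (R : Set G)) :
    R = ⊥ ∨ R = T := by
  have := h.simple
  rcases (normal_subgroupOf_of_le_normalizer hn).eq_bot_or_eq_top with e | e
  · exact Or.inl (by simpa [disjoint_iff, inf_eq_left.2 hR] using subgroupOf_eq_bot.1 e)
  · exact Or.inr (hR.antisymm (subgroupOf_eq_top.1 e))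

theorem NS.eq_one_of_central (h : NS T) {z : G} (hz : z ∈ T) (hc : ∀ a ∈ T, z * a = a * z) :
    z = 1 := by
  rcases h.normal (R := T ⊓ centralizer (T : Set G)) inf_le_left (le_norm_of_comm
    fun a ha b hb => (ha.2 b hb).symm) with e | e
  · exact (e ▸ (⟨hz, fun a ha => (hc a ha).symm⟩ : z ∈ T ⊓ centralizer (T : Set G)) : z ∈ (⊥ : Subgroup G))
  · exact absurd ⟨⟨fun a b => Subtype.ext ((e.ge b.2).2 a a.2)⟩⟩ h.ncomm

theorem NS.not_odd (h : NS T) : ¬ Odd (Nat.card T) := fun ho => by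
  have := h.simple
  exact h.ncomm ⟨⟨IsSimpleGroup.comm_iff_isSolvable.2 (FT.odd_order_solvable ho)⟩⟩

theorem NS.four_dvd (h : NS T) : 4 ∣ Nat.card T := by
  have := h.simple
  exact SylNum.four_dvd_of_two_dvd h.ncomm (even_iff_two_dvd.1 (Nat.not_odd_iff_even.1 h.not_odd))

theorem NS.noO (h : NS T) : NoO T := fun _ hR hn ho =>
  (h.normal hR hn).resolve_right fun e => h.not_odd (e ▸ ho)

/-- `T` is generated by its involutions -/
theorem NS.le_of_invol (h : NS T) {H : Subgroup G} (hH : ∀ a ∈ T, a * a = 1 → a ∈ H) : T ≤ H := by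
  have hle : closure {a | a ∈ T ∧ a * a = 1} ≤ T := (closure_le _).2 fun a ha => ha.1
  rcases h.normal hle (fun g hg => mem_normalizer_of_cj_le (by
    rw [Tech.cj, MonoidHom.map_closure, closure_le]
    rintro _ ⟨a, ha, rfl⟩
    refine subset_closure ⟨mul_mem (mul_mem hg ha.1) (inv_mem hg), ?_⟩
    rw [← map_mul, ha.2, map_one])) with e | e
  · obtain ⟨t, ht⟩ := exists_prime_orderOf_dvd_card' (G := T) 2 (Dvd.dvd.trans ⟨2, rfl⟩ h.four_dvd)
    have h2 : (t : G) * t = 1 := by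
      have := pow_orderOf_eq_one t
      rw [ht, sq] at this
      exact congrArg Subtype.val this
    have : (t : G) ∈ (⊥ : Subgroup G) := e ▸ subset_closure ⟨t.2, h2⟩
    have : t = 1 := Subtype.ext this
    simp [this] at ht
  · exact e.ge.trans ((closure_le _).2 fun a ha => hH a ha.1 ha.2)

theorem Fac.cj (h : Fac T C) (g : G) : Fac (cj g T) (cj g C) :=
  ⟨h.toNS.cj g, cj_mono g h.le, by rw [← cj_normalizer]; exact cj_mono g h.nrm⟩

theorem Fac.eq_one (h : Fac T C) (h' : Fac T D) (hne : C ≠ D) {a : G} (ha : a ∈ C) (ha' : a ∈ D) :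
    a = 1 := by
  have hn : T ≤ normalizer ((C ⊓ D : Subgroup G) : Set G) := fun g hg =>
    mem_normalizer_of_forall fun x hx =>
      ⟨conj_mem_of_mem_normalizer (h.nrm hg) hx.1, conj_mem_of_mem_normalizer (h'.nrm hg) hx.2⟩
  by_contra h1
  have h0 : C ⊓ D ≠ ⊥ := fun e => h1 (e ▸ (⟨ha, ha'⟩ : a ∈ C ⊓ D) : a ∈ (⊥ : Subgroup G))
  exact hne (((h.toNS.normal inf_le_left (h.le.trans hn)).resolve_left h0).symm.trans
    ((h'.toNS.normal inf_le_right (h'.le.trans hn)).resolve_left h0))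

theorem Fac.comm (h : Fac T C) (h' : Fac T D) (hne : C ≠ D) {a b : G} (ha : a ∈ C) (hb : b ∈ D) :
    a * b = b * a := by
  have h1 : a * b * a⁻¹ * b⁻¹ ∈ D :=
    mul_mem (conj_mem_of_mem_normalizer (h'.nrm (h.le ha)) hb) (inv_mem hb)
  have h2 : a * b * a⁻¹ * b⁻¹ ∈ C := by
    have := mul_mem ha (conj_mem_of_mem_normalizer (h.nrm (h'.le hb)) (inv_mem ha))
    simpa [mul_assoc] using this
  have := h.eq_one h' hne h2 h1
  calc a * b = a * b * a⁻¹ * b⁻¹ * (b * a) := by group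
    _ = b * a := by rw [this, one_mul]

theorem Semi.cj (h : Semi T) (g : G) : Semi (cj g T) := fun H hH => by
  rw [← cj_cj_inv g H, cj_le_cj_iff]
  refine h _ fun C hC => ?_
  rw [← cj_le_cj_iff g, cj_cj_inv]
  exact hH _ (hC.cj g)

/-- a nonabelian minimal `H`-invariant subgroup of `H` is semisimple -/
theorem semi_of_min {H : Subgroup G} (hT : T ≤ H) (hn : H ≤ normalizer (T : Set G))
    (hmin : ∀ R : Subgroup G, R ≤ T → H ≤ normalizer (R : Set G) → R = ⊥ ∨ R = T)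
    (hc : ¬ IsMulCommutative T) : Semi T := by
  have := normal_subgroupOf_of_le_normalizer hn
  have hm : (T.subgroupOf H).map H.subtype = T := map_subgroupOf_eq_of_le hT
  obtain ⟨C, h1, h2, h3, h4, -, -⟩ := Perm.exists_simple_factor (T.subgroupOf H)
    (fun e => hc (by rw [← hm, e, Subgroup.map_bot]; infer_instance))
    (fun M hM hle => by
      rcases hmin (M.map H.subtype) (hm ▸ map_mono hle) (fun g hg => mem_normalizer_of_forall (by
        rintro _ ⟨x, hx, rfl⟩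
        exact ⟨_, hM.conj_mem x hx ⟨g, hg⟩, rfl⟩)) with e | e
      · exact Or.inl ((map_eq_bot_iff_of_injective _ H.subtype_injective).1 e)
      · exact Or.inr (map_injective H.subtype_injective (e.trans hm.symm)))
    (fun e => hc ⟨⟨fun a b => Subtype.ext (congrArg (fun x : T.subgroupOf H => ((x : H) : G))
      (e.is_comm.comm ⟨⟨a, hT a.2⟩, a.2⟩ ⟨⟨b, hT b.2⟩, b.2⟩))⟩⟩)
  have hC : Fac T (C.map H.subtype) := by
    let e := C.equivMapOfInjective H.subtype H.subtype_injective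
    refine ⟨⟨e.symm.isSimpleGroup, fun hc => h4 ⟨⟨fun a b => e.injective ?_⟩⟩⟩, hm ▸ map_mono h1,
      fun g hg => mem_normalizer_of_forall ?_⟩
    · rw [map_mul, map_mul, hc.is_comm.comm]
    · rintro _ ⟨x, hx, rfl⟩
      exact ⟨_, conj_mem_of_mem_normalizer (h2 (show (⟨g, hT hg⟩ : H) ∈ T.subgroupOf H from hg)) hx, rfl⟩
  intro Y hY
  have hR : sSup {D | Fac T D} ≤ T := sSup_le fun D hD => hD.le
  rcases hmin _ hR (fun g hg => mem_normalizer_of_cj_le (by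
    rw [← cj_le_cj_iff g⁻¹, cj_inv_cj]
    refine sSup_le fun D hD => ?_
    rw [← cj_le_cj_iff g, cj_cj_inv]
    refine le_sSup ?_
    have := Fac.cj hD g
    rwa [mem_normalizer_iff_cj.1 (hn hg)] at this)) with e | e
  · have : C.map H.subtype = ⊥ := le_bot_iff.1 (e ▸ le_sSup hC)
    exact absurd (by rw [this]; infer_instance) hC.ncomm
  · exact e.ge.trans (sSup_le hY)

end CfsgLib.OTI2
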