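import Mathlib
import Cfsg.Agent.Lib.OTI2.Bas1
import Cfsg.Agent.Lib.Holt.BasA

/-! The `Z*`-argument (package CI).  See `plans/OTI2.md`. -/

set_option autoImplicit false

namespace CfsgLib.OTI2

open Subgroup CfsgLib.Tech

universe u

variable {G : Type u} [Group G] [Finite G] {T T' K L M : Subgroup G}

theorem TP.comm_of_zstar (h : TP T T') (hM : M ≤ T) (hO : NoO M) (hK : ¬ M ≤ KK T T') {t : G}
    (ht : t ∈ KK T' T) (h2 : orderOf t = 2) (hn : t ∈ normalizer (M : Set G)) {l m : G}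
    (hl : l ∈ KK T' T) (hm : m ∈ KK T' T) (hlt : l * t = t * l) (hmt : m * t = t * m) :
    l * m = m * l := by
  have t2 : t * t = 1 := by rw [← pow_two, ← h2, pow_orderOf_eq_one]
  have t1 : t ≠ 1 := fun e => by simp [e] at h2
  obtain ⟨g, hg, c1, c2⟩ : ∃ g ∈ M, Commute t (g * t * g⁻¹) ∧ g * t * g⁻¹ ≠ t := by
    by_contra! hi
    refine hK fun g hg => h.mem_KK_of_comm ht.1 t1 (hM hg) ?_
    have h1 := Holt.zstar_in (H := M ⊔ zpowers t) (mem_sup_right (mem_zpowers t)) t2 (fun a ha c => by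
      obtain ⟨b, hb, _, ⟨n, rfl⟩, rfl⟩ := (coe_mul_of_right_le_normalizer_left _ _ (zpowers_le.2 hn)).le ha
      have e : b * t ^ n * t * (b * t ^ n)⁻¹ = b * t * b⁻¹ := by group
      simp only [e] at c ⊢
      exact hi b hb c) (mem_sup_left hg)
    have h3 := hO (Holt.OO (M ⊔ zpowers t) ⊓ M) inf_le_right (fun a ha => mem_normalizer_of_forall fun x hx =>
      ⟨conj_mem_of_mem_normalizer (PComp.le_normalizer_opOf _ (mem_sup_left ha)) hx.1,
        M.mul_mem (M.mul_mem ha hx.2) (M.inv_mem ha)⟩) (Odd.of_dvd_nat (Holt.odd_OO _) (card_dvd_of_le inf_le_left))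
    exact (commutatorElement_eq_one_iff_mul_comm.1 (mem_bot.1 (h3.le
      ⟨h1, by
        rw [commutatorElement_def]
        exact M.mul_mem (conj_mem_of_mem_normalizer hn hg) (M.inv_mem hg)⟩))).symm
  have hgT := hM hg
  have ti : t⁻¹ = t := inv_eq_of_mul_eq_one_right t2
  -- `s = t' t`
  have sT : g * t * g⁻¹ * t ∈ T := by
    have := mul_mem hgT (conj_mem_of_mem_normalizer ht.2 (inv_mem hgT))
    rwa [ti, ← mul_assoc, ← mul_assoc] at this
  have s1 : g * t * g⁻¹ * t ≠ 1 := fun e => c2 ((eq_inv_of_mul_eq_one_left e).trans ti)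
  have cs : Commute (g * t * g⁻¹ * t) t := c1.symm.mul_left (Commute.refl t)
  have sK := h.mem_KK_of_comm ht.1 t1 sT cs
  have t'1 : g * t * g⁻¹ ≠ 1 := fun e => t1 (by simpa using e)
  have hc := h.cj g
  rw [cj_eq_of_mem hgT] at hc
  have hne : T' ≠ Tech.cj g T' := fun e => s1 (h.eq_one sT (mul_mem (e ▸ conj_mem_cj.2 ht.1) ht.1))
  have h' : TP T' (Tech.cj g T') := by
    have := h.symm.of_cj (a := 1) (b := g) (by rwa [cj_one])
    rwa [cj_one] at this
  have t'K : g * t * g⁻¹ ∈ Tech.cj g T' := conj_mem_cj.2 ht.1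
  have l1 : l ∈ KK T' (Tech.cj g T') := h'.mem_KK_of_comm t'K t'1 hl.1 (by
    have : Commute l (g * t * g⁻¹ * t * t) := (Commute.mul_right (h.comm sK hl).symm hlt)
    rwa [mul_assoc, t2, mul_one] at this)
  have m1 : g * m * g⁻¹ ∈ KK (Tech.cj g T') T := by
    have := (conj_mem_cj (g := g)).2 hm
    rwa [cj_KK, cj_eq_of_mem hgT] at this
  have m2 : Commute (g * m * g⁻¹) (g * t * g⁻¹) := by
    change _ = _
    rw [conj_mul, conj_mul, hmt]
  have m3 : Commute (g * m * g⁻¹) t := by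
    have := m2.inv_right.mul_right (hc.comm (hc.mem_KK_of_comm t'K t'1 sT
      ((Commute.refl _).mul_left c1)) m1).symm
    rwa [inv_mul_cancel_left] at this
  have c3 : Commute l (g * m * g⁻¹) := h'.comm l1 (h'.symm.mem_KK_of_comm ht.1 t1 m1.1 m3)
  have nT : g * m * g⁻¹ * m⁻¹ ∈ T := by
    have := mul_mem hgT (conj_mem_of_mem_normalizer hm.2 (inv_mem hgT))
    rwa [← mul_assoc, ← mul_assoc] at this
  have c4 : Commute l (g * m * g⁻¹ * m⁻¹) := (h.comm (h.mem_KK_of_comm ht.1 t1 nT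
    (m3.mul_left (Commute.inv_left hmt))) hl).symm
  have := c4.inv_right.mul_right c3
  rwa [mul_inv_rev, inv_inv, inv_mul_cancel_right] at this

theorem TP.comm_two (h : TP T T') (hM : M ≤ T) (hO : NoO M) (hK : ¬ M ≤ KK T T')
    (hL : L ≤ KK T' T) (h2 : IsPGroup 2 L) (hn : L ≤ normalizer (M : Set G)) {l m : G}
    (hl : l ∈ L) (hm : m ∈ L) : l * m = m * l := by
  rcases L.bot_or_nontrivial with rfl | hL1
  · rw [mem_bot.1 hl, one_mul, mul_one]
  have := h2.center_nontrivial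
  obtain ⟨k, k0, hk⟩ := (h2.to_subgroup (center L)).nontrivial_iff_card.1 this
  obtain ⟨t, ht⟩ := exists_prime_orderOf_dvd_card' (G := center L) 2 (hk ▸ dvd_pow_self 2 k0.ne')
  exact h.comm_of_zstar hM hO hK (hL t.1.2) (by rwa [Subgroup.orderOf_coe, Subgroup.orderOf_coe]) (hn t.1.2) (hL hl)
    (hL hm) (congrArg Subtype.val (mem_center_iff.1 t.2 ⟨l, hl⟩)) (congrArg Subtype.val (mem_center_iff.1 t.2 ⟨m, hm⟩))

/-- case I -/
theorem Sy.comm_of_sylow (h : Sy T T' K L) (hO : NoO T) (hK : ¬ T ≤ KK T T')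
    (hs : IsSylowIn 2 K T) {a b : G} (ha : a ∈ K) (hb : b ∈ K) : a * b = b * a := by
  obtain ⟨g, hg⟩ := h.conj
  obtain ⟨u, -, e⟩ := (hg ▸ hs.cj g).exists_cj_eq (h.sylow_symm hs)
  rw [← cj_mul] at e
  have := h.toTP.comm_two le_rfl hO hK h.sL.le h.sL.pgroup (h.sL.le.trans inf_le_right)
    (e ▸ conj_mem_cj.2 ha) (e ▸ conj_mem_cj.2 hb)
  rwa [conj_mul, conj_mul, mul_left_inj, mul_right_inj] at this

end CfsgLib.OTI2
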