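import Mathlib
import Cfsg.Agent.Lib.OTI2.Bas1
import Cfsg.Agent.Lib.L33.Tool

/-! Case II: the shears `φ_u` (package BAS2).  See `plans/OTI2.md`. -/

set_option autoImplicit false

namespace CfsgLib.OTI2

open Subgroup CfsgLib.Tech

universe u

variable {G : Type u} [Group G] [Finite G] {T T' K L S : Subgroup G}

namespace C2

theorem b2_LN (h : C2 T T' K L S) {l : G} (hl : l ∈ L) : l ∈ normalizer (T : Set G) := (h.sL.le hl).2

theorem b2_nrm (h : C2 T T' K L S) : T ⊔ L ≤ normalizer (T : Set G) :=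
  sup_le Subgroup.le_normalizer fun _ hl => h.b2_LN hl

theorem sT (h : C2 T T' K L S) : IsSylowIn 2 (S ⊓ T) T := by
  have := h.sS.inf_of_le_normalizer h.b2_nrm
  rwa [inf_eq_right.2 (le_sup_left : T ≤ T ⊔ L)] at this

theorem le_normalizer (h : C2 T T' K L S) : T ⊔ L ≤ normalizer (T : Set G) := by
  exact h.b2_nrm

theorem mem_S (h : C2 T T' K L S) {s : G} (hs : s ∈ S) : ∃ a ∈ S ⊓ T, ∃ l ∈ L, a * l = s := by
  have h2 : s ∈ ((T ⊔ L : Subgroup G) : Set G) := h.sS.le hs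
  rw [coe_mul_of_right_le_normalizer_left T L fun _ hl => h.b2_LN hl] at h2
  obtain ⟨a, ha, l, hl, rfl⟩ := h2
  exact ⟨a, ⟨(mul_mem_cancel_right (h.leL hl)).1 hs, ha⟩, l, hl, rfl⟩

theorem mem_K (h : C2 T T' K L S) {a : G} (ha : a ∈ S) (hk : a ∈ KK T T') : a ∈ K := by
  rw [← h.sK.eq_of_le (Q := S ⊓ KK T T') (h.sS.pgroup.to_le inf_le_left) (le_inf h.leK h.sK.le) inf_le_right]
  exact ⟨ha, hk⟩

theorem K_le (h : C2 T T' K L S) : K ≤ AA T K L S := by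
  exact fun k hk => ⟨⟨h.leK hk, (h.sK.le hk).1⟩, Subgroup.le_normalizer (mem_sup_left hk)⟩

theorem exists_A (h : C2 T T' K L S) : ∃ u ∈ AA T K L S, u ∉ K := by
  have h1 : K ⊔ L < S := (sup_le h.leK h.leL).lt_of_ne fun e =>
    h.nle fun a ha => h.mem_of_mem_sup (e ▸ ha.1) ha.2
  obtain ⟨x, hx, h2, h3⟩ := exists_mem_normalizer_of_lt h.sS.pgroup h1
  obtain ⟨a, ha, l, hl, rfl⟩ := h.mem_S hx
  exact ⟨a, ⟨ha, (mul_mem_cancel_right (Subgroup.le_normalizer (mem_sup_right hl))).1 h3⟩,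
    fun e => h2 (mul_mem (mem_sup_left e) (mem_sup_right hl))⟩

theorem conj_mem (h : C2 T T' K L S) {u k : G} (hu : u ∈ normalizer (T : Set G))
    (hn : u ∈ normalizer ((K ⊔ L : Subgroup G) : Set G)) (hk : k ∈ K) : u * k * u⁻¹ ∈ K := by
  exact h.mem_of_mem_sup (conj_mem_of_mem_normalizer hn (mem_sup_left hk))
    (conj_mem_of_mem_normalizer hu (h.sK.le hk).1)

theorem phi_mem (h : C2 T T' K L S) {u l : G} (hu : u ∈ T)
    (hn : u ∈ normalizer ((K ⊔ L : Subgroup G) : Set G)) (hl : l ∈ L) :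
    u * l * u⁻¹ * l⁻¹ ∈ K := by
  refine h.mem_of_mem_sup (mul_mem (conj_mem_of_mem_normalizer hn (mem_sup_right hl)) (inv_mem (mem_sup_right hl))) ?_
  rw [mul_assoc, mul_assoc, ← mul_assoc l]
  exact mul_mem hu (conj_mem_of_mem_normalizer (h.b2_LN hl) (inv_mem hu))

theorem phi_inj (h : C2 T T' K L S) {u l : G} (hu : u ∈ S ⊓ T) (hk : u ∉ K) (hl : l ∈ L)
    (hc : u * l = l * u) : l = 1 := by
  by_contra h1
  exact hk (h.mem_K hu.1 (h.mem_KK_of_comm (h.sL.le hl).1 h1 hu.2 hc))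

theorem b2_inj (h : C2 T T' K L S) {u l m : G} (hu : u ∈ S ⊓ T) (hk : u ∉ K) (hl : l ∈ L) (hm : m ∈ L)
    (e : u * l * u⁻¹ * l⁻¹ = u * m * u⁻¹ * m⁻¹) : l = m := by
  have := h.phi_inj hu hk (mul_mem (inv_mem hm) hl) (by
    calc u * (m⁻¹ * l) = m⁻¹ * ((u * m * u⁻¹ * m⁻¹)⁻¹ * (u * l * u⁻¹ * l⁻¹)) * l * u := by group
      _ = _ := by rw [e]; group)
  exact (inv_mul_eq_one.1 this).symm

theorem phi_surj (h : C2 T T' K L S) {u k : G} (hu : u ∈ AA T K L S) (hk : u ∉ K) (hk' : k ∈ K) :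
    ∃ l ∈ L, u * l * u⁻¹ * l⁻¹ = k := by
  obtain ⟨⟨l, hl⟩, e⟩ := (Function.Injective.bijective_of_nat_card_le
    (f := fun l : L => (⟨u * l * u⁻¹ * (l : G)⁻¹, h.phi_mem hu.1.2 hu.2 l.2⟩ : K))
    (fun l m e => Subtype.ext (h.b2_inj hu.1 hk l.2 m.2 (Subtype.ext_iff.1 e))) h.card_eq.le).2 ⟨k, hk'⟩
  exact ⟨l, hl, Subtype.ext_iff.1 e⟩

theorem phi_mul (h : C2 T T' K L S) {u l m : G} (hu : u ∈ AA T K L S) (hl : l ∈ L) (hm : m ∈ L) :
    u * (l * m) * u⁻¹ * (l * m)⁻¹ = (u * l * u⁻¹ * l⁻¹) * (u * m * u⁻¹ * m⁻¹) := by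
  have := h.toSy.comm (h.phi_mem hu.1.2 hu.2 hm) (inv_mem hl)
  calc _ = u * l * u⁻¹ * (u * m * u⁻¹ * m⁻¹ * l⁻¹) := by group
    _ = _ := by rw [this]; group

/-- `φ_u(l) = φ_v(l)` with `l ≠ 1` forces `u K = v K` -/
theorem mem_of_phi_eq (h : C2 T T' K L S) {u v l : G} (hu : u ∈ S ⊓ T) (hv : v ∈ S ⊓ T)
    (hl : l ∈ L) (h1 : l ≠ 1) (e : u * l * u⁻¹ = v * l * v⁻¹) : v⁻¹ * u ∈ K := by
  by_contra hn
  refine h1 (h.phi_inj (mul_mem (inv_mem hv) hu) hn hl ?_)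
  calc _ = v⁻¹ * (u * l * u⁻¹) * u := by group
    _ = _ := by rw [e]; group

theorem commK (h : C2 T T' K L S) {a b : G} (ha : a ∈ K) (hb : b ∈ K) : a * b = b * a := by
  obtain ⟨u, hu, h1⟩ := h.exists_A
  obtain ⟨l, hl, rfl⟩ := h.phi_surj hu h1 ha
  have h2 := h.toSy.comm (h.conj_mem (inv_mem (h.b2_nrm (mem_sup_left hu.1.2))) (inv_mem hu.2) hb) hl
  have h3 := h.toSy.comm hb (inv_mem hl)
  calc _ = u * (l * (u⁻¹ * b * u⁻¹⁻¹)) * u⁻¹ * l⁻¹ := by rw [mul_assoc _ l⁻¹, ← h3]; group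
    _ = _ := by rw [← h2]; group

theorem commL (h : C2 T T' K L S) {a b : G} (ha : a ∈ L) (hb : b ∈ L) : a * b = b * a := by
  obtain ⟨u, hu, h1⟩ := h.exists_A
  refine h.b2_inj hu.1 h1 (mul_mem ha hb) (mul_mem hb ha) ?_
  rw [h.phi_mul hu ha hb, h.phi_mul hu hb ha, h.commK (h.phi_mem hu.1.2 hu.2 ha) (h.phi_mem hu.1.2 hu.2 hb)]

theorem commE (h : C2 T T' K L S) {a b : G} (ha : a ∈ K ⊔ L) (hb : b ∈ K ⊔ L) :
    a * b = b * a := by
  obtain ⟨k, hk, l, hl, rfl⟩ := h.mem_sup.1 ha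
  obtain ⟨k', hk', l', hl', rfl⟩ := h.mem_sup.1 hb
  exact (((show Commute k k' from h.commK hk hk').mul_right (h.toSy.comm hk hl')).mul_left
    ((show Commute l k' from (h.toSy.comm hk' hl).symm).mul_right (h.commL hl hl'))).eq

theorem b2_nK (h : C2 T T' K L S) : AA T K L S ≤ normalizer (K : Set G) := fun _ hu =>
  mem_normalizer_of_forall fun _ hk => h.conj_mem (h.b2_nrm (mem_sup_left hu.1.2)) hu.2 hk

theorem sq_mem (h : C2 T T' K L S) {u : G} (hu : u ∈ AA T K L S) : u * u ∈ K := by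
  by_cases h1 : u ∈ K
  · exact mul_mem h1 h1
  obtain ⟨k, hk, h2, h3⟩ := exists_mem_center_of_normalized
    (h.sS.pgroup.to_le (inf_le_left.trans inf_le_left : AA T K L S ≤ S)) h.K_le h.b2_nK h.neK
  obtain ⟨l, hl, e⟩ := h.phi_surj hu h1 hk
  by_contra h4
  have h5 := h.phi_inj (mul_mem hu.1 hu.1) h4 hl (by
    calc _ = u * (u * l * u⁻¹ * l⁻¹) * u⁻¹ * (u * l * u⁻¹ * l⁻¹) * (l * (u * u)) := by group
      _ = _ := by rw [e, h3 u hu, mul_inv_cancel_right, mul_self_of_orderOf_two h2, one_mul])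
  rw [h5] at e
  exact ne_one_of_orderOf_two h2 (by rw [← e]; group)

theorem inv (h : C2 T T' K L S) {u k : G} (hu : u ∈ AA T K L S) (hk : u ∉ K) (hk' : k ∈ K) :
    u * k * u⁻¹ = k⁻¹ := by
  obtain ⟨l, hl, rfl⟩ := h.phi_surj hu hk hk'
  refine eq_inv_of_mul_eq_one_left ?_
  calc _ = u * u * l * (u * u)⁻¹ * l⁻¹ := by group
    _ = 1 := by rw [h.toSy.comm (h.sq_mem hu) hl]; group

theorem comm_mem (h : C2 T T' K L S) {u v : G} (hu : u ∈ AA T K L S) (hv : v ∈ AA T K L S) :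
    u * v * u⁻¹ * v⁻¹ ∈ K := by
  have := mul_mem (mul_mem (h.sq_mem hu) (h.sq_mem (mul_mem (inv_mem hu) hv))) (h.sq_mem (inv_mem hv))
  rwa [show u * u * (u⁻¹ * v * (u⁻¹ * v)) * (v⁻¹ * v⁻¹) = u * v * u⁻¹ * v⁻¹ by group] at this

theorem mul_mem_of_not_elem (h : C2 T T' K L S) (hk : ∃ k ∈ K, k * k ≠ 1) {u v : G}
    (hu : u ∈ AA T K L S) (hv : v ∈ AA T K L S) (hu' : u ∉ K) (hv' : v ∉ K) : u * v ∈ K := by
  by_contra hn
  obtain ⟨k, h1, h2⟩ := hk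
  have h3 := h.inv (mul_mem hu hv) hn h1
  rw [show u * v * k * (u * v)⁻¹ = u * (v * k * v⁻¹) * u⁻¹ by group, h.inv hv hv' h1, h.inv hu hu' (inv_mem h1),
    inv_inv] at h3
  exact h2 (mul_eq_one_iff_eq_inv.2 h3)

theorem elemL (h : C2 T T' K L S) (he : ∀ k ∈ K, k * k = 1) : ∀ l ∈ L, l * l = 1 := by
  intro l hl
  obtain ⟨u, hu, h1⟩ := h.exists_A
  refine h.b2_inj hu.1 h1 (mul_mem hl hl) (one_mem _) ?_
  rw [h.phi_mul hu hl hl, he _ (h.phi_mem hu.1.2 hu.2 hl)]; group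

theorem central (h : C2 T T' K L S) (he : ∀ k ∈ K, k * k = 1) {u k : G} (hu : u ∈ AA T K L S)
    (hk : k ∈ K) : u * k = k * u := by
  by_cases h1 : u ∈ K
  · exact h.commK h1 hk
  · rw [← mul_inv_eq_iff_eq_mul, h.inv hu h1 hk, inv_eq_of_mul_eq_one_right (he k hk)]

theorem card_AA_le (h : C2 T T' K L S) : Nat.card (AA T K L S) ≤ Nat.card K ^ 2 := by
  obtain ⟨⟨l, hl⟩, h1⟩ := ne_bot_iff_exists_ne_one.1 h.toSy.symm.neK
  have h2 := L33.card_le_mul (Y := AA T K L S) (F := K) (s := l) fun u hu => h.phi_mem hu.1.2 hu.2 hl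
  have h3 : AA T K L S ⊓ centralizer {l} ≤ K := fun u hu => by
    by_contra hn
    exact h1 (Subtype.ext (h.phi_inj hu.1.1 hn hl (mem_centralizer_singleton_iff.1 hu.2)))
  exact h2.trans (pow_two (Nat.card K) ▸ Nat.mul_le_mul_left _ (card_le_of_le h3))

theorem AA_eq (h : C2 T T' K L S) (hS : S ≤ normalizer ((K ⊔ L : Subgroup G) : Set G)) :
    AA T K L S = S ⊓ T := by
  exact inf_eq_left.2 (inf_le_left.trans hS)

end C2

end CfsgLib.OTI2
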