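import Mathlib
import Cfsg.Agent.Lib.OTI2.Defs
import Cfsg.Agent.Lib.Gold.All

/-! Goldschmidt's theorem for a subgroup `T` with Sylow subgroup `Q` (package GTW).  See `plans/OTI2.md`. -/

set_option autoImplicit false

namespace CfsgLib.OTI2

open Subgroup CfsgLib.Tech CfsgLib.Gold

universe u

variable {G : Type u} [Group G] [Finite G] {T Q B : Subgroup G}

theorem gtw_norm {H : Subgroup G} {n : T} (hn : (n : G) ∈ normalizer (H : Set G)) :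
    n ∈ normalizer (H.subgroupOf T : Set T) :=
  mem_normalizer_of_forall fun _ hx => mem_subgroupOf.2 (conj_mem_of_mem_normalizer hn (mem_subgroupOf.1 hx))

theorem gtw_norm' {H : Subgroup G} (hH : H ≤ T) {n : T} (hn : n ∈ normalizer (H.subgroupOf T : Set T)) :
    (n : G) ∈ normalizer (H : Set G) :=
  mem_normalizer_of_forall fun x hx => conj_mem_of_mem_normalizer hn (x := ⟨x, hH hx⟩) hx

omit [Finite G] in
theorem gtw_ne (hB : B ≤ T) (h1 : B ≠ ⊥) : B.subgroupOf T ≠ ⊥ := fun e =>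
  h1 (eq_bot_iff.2 fun b hb => congrArg Subtype.val (mem_bot.1 (e.le (show (⟨b, hB hb⟩ : T) ∈ B.subgroupOf T from hb))))

theorem gtw_omega (h : GT T) (hQ : IsSylowIn 2 Q T) {v : T} :
    v ∈ Cfsg.omegaOne 2 (hQ.toSylow : Subgroup T) ↔ (v : G) ∈ Q ∧ (v : G) * v = 1 :=
  (h.mem_omega _).trans (and_congr hQ.mem_toSylow Subtype.ext_iff)

theorem gt_of_sc (h : NS T) (hB : SC B T) (h1 : B ≠ ⊥) (hc : ∀ a ∈ B, ∀ b ∈ B, a * b = b * a) :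
    GT T := by
  exact (Gold.all.inp T).gt h.simple h.ncomm ⟨B.subgroupOf T, gtw_ne hB.le h1,
    ⟨⟨fun a b => Subtype.ext (Subtype.ext (hc _ a.2 _ b.2))⟩⟩, hB.subgroupOf⟩

theorem gt_of_comm (h : NS T) (hQ : IsSylowIn 2 Q T) (hc : ∀ a ∈ Q, ∀ b ∈ Q, a * b = b * a) :
    GT T := by
  refine gt_of_sc h (sc_of_isSylowIn hQ le_rfl fun _ _ _ _ e => e) (fun e => ?_) hc
  have := h.simple
  have h1 : Odd (Nat.card T) := by
    have := hQ.not_dvd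
    rwa [e, relIndex_bot_left, Nat.two_dvd_ne_zero, ← Nat.odd_iff] at this
  exact h.ncomm ⟨⟨IsSimpleGroup.comm_iff_isSolvable.2 (FT.odd_order_solvable h1)⟩⟩

theorem gt_central (h : GT T) (hQ : IsSylowIn 2 Q T) {v s : G} (hv : v ∈ Q) (h2 : v * v = 1)
    (hs : s ∈ Q) : v * s = s * v := by
  exact congrArg Subtype.val (h.omega_le_centralizer hQ.toSylow ((gtw_omega h hQ (v := ⟨v, hQ.le hv⟩)).2 ⟨hv, h2⟩)
    ⟨s, hQ.le hs⟩ (hQ.mem_toSylow.2 hs)).symm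

theorem gt_elem (h : GT T) (hQ : IsSylowIn 2 Q T) {z : G} (hz : z ∈ Q)
    (hc : ∀ s ∈ Q, z * s = s * z) : z * z = 1 := by
  refine ((gtw_omega h hQ (v := ⟨z, hQ.le hz⟩)).1 ?_).2
  rcases h with h | h
  · exact (h.center_eq _).le ⟨hQ.mem_toSylow.2 hz, fun s hs => Subtype.ext (hc _ (hQ.mem_toSylow.1 hs)).symm⟩
  · exact (h.omega_eq _).ge (hQ.mem_toSylow.2 hz)

theorem gt_conj (h : GT T) {a b : G} (ha : a ∈ T) (hb : b ∈ T) (ha2 : orderOf a = 2)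
    (hb2 : orderOf b = 2) : ∃ g ∈ T, g * a * g⁻¹ = b := by
  obtain ⟨g, hg⟩ := h.exists_conj (a := ⟨a, ha⟩) (b := ⟨b, hb⟩) (by rwa [← Subgroup.orderOf_coe])
    (by rwa [← Subgroup.orderOf_coe])
  exact ⟨g, g.2, congrArg Subtype.val hg⟩

theorem gt_inner (h : GT T) (hQ : IsSylowIn 2 Q T) {g : G} (hg : g ∈ normalizer (T : Set G))
    {k : ℕ} (hk : g ^ 2 ^ k = 1)
    (h1 : ∀ s ∈ Q, g * s * g⁻¹ * s⁻¹ ∈ Q ∧ g * s * g⁻¹ * s⁻¹ * (g * s * g⁻¹ * s⁻¹) = 1)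
    (h2 : ∀ v ∈ Q, v * v = 1 → g * v = v * g) :
    ∃ s ∈ Q, ∀ a ∈ T, g * a * g⁻¹ = s * a * s⁻¹ := by
  obtain ⟨s, hs, e⟩ := h.inner hQ.toSylow (φ := T.normalizerMonoidHom ⟨g, hg⟩) (k := k)
    (by rw [← map_pow, show (⟨g, hg⟩ : normalizer (T : Set G)) ^ 2 ^ k = 1 from Subtype.ext hk, map_one])
    (fun s hs => (gtw_omega h hQ).2 (h1 _ (hQ.mem_toSylow.1 hs)))
    fun v hv => Subtype.ext (mul_inv_eq_iff_eq_mul.2 (h2 _ ((gtw_omega h hQ).1 hv).1 ((gtw_omega h hQ).1 hv).2))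
  exact ⟨s, hQ.mem_toSylow.1 hs, fun a ha => congrArg (fun φ : MulAut T => (φ ⟨a, ha⟩ : G)) e⟩

theorem gt_omega_le (h : GT T) (hQ : IsSylowIn 2 Q T) (hB : B ≤ Q) (h1 : B ≠ ⊥)
    (hn : T ⊓ normalizer (Q : Set G) ≤ normalizer (B : Set G)) {v : G} (hv : v ∈ Q)
    (h2 : v * v = 1) : v ∈ B := by
  exact h.omega_le hQ.toSylow (B := B.subgroupOf T) (fun _ e => hQ.mem_toSylow.2 (hB e)) (gtw_ne (hB.trans hQ.le) h1)
    (fun n e => gtw_norm (hn ⟨n.2, gtw_norm' hQ.le e⟩)) ((gtw_omega h hQ (v := ⟨v, hQ.le hv⟩)).2 ⟨hv, h2⟩)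

theorem gt_irr (h : GT T) (hQ : IsSylowIn 2 Q T) (hB : B ≤ Q) (h1 : ∀ v ∈ Q, v * v = 1 → v ∈ B)
    (hn : T ⊓ normalizer (Q : Set G) ≤ normalizer (B : Set G)) :
    (∀ b ∈ B, b * b = 1) ∨ B = Q := by
  refine (h.irr hQ.toSylow (W := B.subgroupOf T)
    (fun v hv => h1 _ ((gtw_omega h hQ).1 hv).1 ((gtw_omega h hQ).1 hv).2) (fun _ e => hQ.mem_toSylow.2 (hB e))
    fun n e => gtw_norm (hn ⟨n.2, gtw_norm' hQ.le e⟩)).imp (fun e b hb => ?_) fun e => le_antisymm hB fun q hq => ?_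
  · exact ((gtw_omega h hQ (v := ⟨b, hQ.le (hB hb)⟩)).1 (e.le hb)).2
  · exact e.ge (hQ.mem_toSylow.2 hq : (⟨q, hQ.le hq⟩ : T) ∈ _)

theorem gt_sc (h : GT T) (hQ : IsSylowIn 2 Q T) (hB : SC B T) (hBQ : B ≤ Q) (h1 : B ≠ ⊥)
    {v : G} (hv : v ∈ Q) (h2 : v * v = 1) : v ∈ B := by
  rcases h.sc_eq hQ.toSylow hB.subgroupOf (fun _ e => hQ.mem_toSylow.2 (hBQ e)) (gtw_ne hB.le h1) with e | e
  · exact e.ge ((gtw_omega h hQ (v := ⟨v, hQ.le hv⟩)).2 ⟨hv, h2⟩)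
  · exact e.ge (hQ.mem_toSylow.2 hv : (⟨v, hQ.le hv⟩ : T) ∈ _)

/-- there are at least three involutions in `Q` -/
theorem gt_exists_two (h : GT T) (hQ : IsSylowIn 2 Q T) :
    ∃ a ∈ Q, ∃ b ∈ Q, a * a = 1 ∧ b * b = 1 ∧ a ≠ 1 ∧ b ≠ 1 ∧ a ≠ b := by
  have := Fintype.ofFinite (Cfsg.omegaOne 2 (hQ.toSylow : Subgroup T))
  have h4 := h.four_le hQ.toSylow
  rw [Nat.card_eq_fintype_card] at h4
  obtain ⟨a, ha⟩ := Fintype.exists_ne_of_one_lt_card (by omega) (1 : Cfsg.omegaOne 2 (hQ.toSylow : Subgroup T))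
  obtain ⟨b, hb⟩ : ∃ b, b ≠ 1 ∧ b ≠ a := by
    classical
    by_contra! e
    have := (Finset.card_le_card (s := Finset.univ) (t := {1, a}) fun b _ => by
      rw [Finset.mem_insert, Finset.mem_singleton]
      exact or_iff_not_imp_left.2 (e b)).trans Finset.card_le_two
    rw [Finset.card_univ] at this
    omega
  exact ⟨a, ((gtw_omega h hQ).1 a.2).1, b, ((gtw_omega h hQ).1 b.2).1, ((gtw_omega h hQ).1 a.2).2,
    ((gtw_omega h hQ).1 b.2).2, fun e => ha (Subtype.ext (Subtype.ext e)),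
    fun e => hb.1 (Subtype.ext (Subtype.ext e)), fun e => hb.2 (Subtype.ext (Subtype.ext e)).symm⟩

end CfsgLib.OTI2
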