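import Mathlib
import Cfsg.Agent.Lib.OTI2.Bas2
import Cfsg.Agent.Lib.OTI2.GTW

/-! Groups of Goldschmidt type do not occur (package GK).  See `plans/OTI2.md`. -/

set_option autoImplicit false

namespace CfsgLib.OTI2

open Subgroup CfsgLib.Tech CfsgLib.Gold

universe u

variable {G : Type u} [Group G] [Finite G] {T T' K L S : Subgroup G}

namespace GKAux

omit [Finite G] in
theorem exists_invol {P : Subgroup G} (hP : IsPGroup 2 P) (h1 : P ≠ ⊥) :
    ∃ t ∈ P, t ≠ 1 ∧ t * t = 1 := by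
  obtain ⟨⟨x, hx⟩, hx1⟩ := (Subgroup.ne_bot_iff_exists_ne_one).1 h1
  have hx1' : x ≠ 1 := fun e => hx1 (Subtype.ext e)
  obtain ⟨k, hk⟩ := isPGroup_iff_mem.1 hP x hx
  induction k generalizing x with
  | zero => exact absurd (by simpa using hk) hx1'
  | succ k ih =>
    by_cases e : x * x = 1
    · exact ⟨x, hx, hx1', e⟩
    · refine ih (x * x) (P.mul_mem hx hx) (fun e' => e (congrArg Subtype.val e')) e ?_
      rw [← pow_two, ← pow_mul, ← pow_succ']; exact hk

omit [Finite G] in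
theorem ne_bot_of_card {P : Subgroup G} (h : 2 ≤ Nat.card P) : P ≠ ⊥ := by
  rintro rfl
  simp at h

/-- the elements of square one of a subgroup in which they are central -/
def omega (Q : Subgroup G) (hc : ∀ v ∈ Q, v * v = 1 → ∀ s ∈ Q, v * s = s * v) : Subgroup G where
  carrier := {v | v ∈ Q ∧ v * v = 1}
  one_mem' := ⟨Q.one_mem, mul_one 1⟩
  mul_mem' := by
    rintro a b ⟨ha, ha2⟩ ⟨hb, hb2⟩
    refine ⟨Q.mul_mem ha hb, ?_⟩
    have e := hc a ha ha2 b hb
    calc a * b * (a * b) = a * (b * a) * b := by simp only [mul_assoc]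
      _ = a * (a * b) * b := by rw [e]
      _ = (a * a) * (b * b) := by simp only [mul_assoc]
      _ = 1 := by rw [ha2, hb2, mul_one]
  inv_mem' := by
    rintro a ⟨ha, ha2⟩
    refine ⟨Q.inv_mem ha, ?_⟩
    rw [← mul_inv_rev, ha2, inv_one]

/-- the automorphisms of `W` that stabilise `K` -/
def stab (W K : Subgroup G) : Subgroup (MulAut W) where
  carrier := {α | ∀ v : W, (v : G) ∈ K ↔ ((α v : W) : G) ∈ K}
  one_mem' := fun _ => Iff.rfl
  mul_mem' := by
    intro a b ha hb v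
    exact (hb v).trans (ha (b v))
  inv_mem' := by
    intro a ha v
    have := ha (a⁻¹ v)
    rw [MulAut.apply_inv_self] at this
    exact this.symm

omit [Finite G] in
theorem rho_apply (W : Subgroup G) (g : normalizer (W : Set G)) (v : W) :
    ((W.normalizerMonoidHom g v : W) : G) = g * v * (g : G)⁻¹ := rfl

/-- the coprime action step -/
theorem le_normalizer_of_action {W M Q : Subgroup G} (hKW : K ≤ W)
    (hMW : M ≤ normalizer (W : Set G)) (hLW : L ≤ normalizer (W : Set G))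
    (hLM : L ≤ normalizer (M : Set G)) (hQ : IsSylowIn 2 Q M)
    (hQc : ∀ s ∈ Q, ∀ v ∈ W, s * v = v * s) (hL : ∀ l ∈ L, l * l = 1) (h4 : 4 ≤ Nat.card L)
    (hu : ∃ u ∈ W, u ∉ K)
    (hC : ∀ l ∈ L, l ≠ 1 → ∀ v ∈ W, (v ∈ K ↔ l * v = v * l)) :
    M ≤ normalizer (K : Set G) := by
  set N := normalizer (W : Set G) with hN
  set ρ := W.normalizerMonoidHom with hρ
  have hinj : ∀ l : N, (l : G) ∈ L → ρ l = 1 → l = 1 := by
    intro l hl e
    by_contra h1
    obtain ⟨u, huW, huK⟩ := hu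
    apply huK
    refine (hC l hl (fun e' => h1 (Subtype.ext e')) u huW).2 ?_
    have := rho_apply W l ⟨u, huW⟩
    rw [← hρ, e] at this
    exact (mul_inv_eq_iff_eq_mul.1 this.symm)
  have key : (M.subgroupOf N).map ρ ≤ stab W K := by
    refine le_of_cent1 (E := (L.subgroupOf N).map ρ) ?_ ?_ ?_ ?_ ?_
    · rintro _ ⟨l, hl, rfl⟩
      rw [← map_mul]
      have : l * l = 1 := Subtype.ext (hL l hl)
      rw [this, map_one]
    · refine h4.trans ?_
      refine Nat.card_le_card_of_injective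
        (fun l : L => (⟨ρ ⟨l, hLW l.2⟩, ⟨⟨l, hLW l.2⟩, l.2, rfl⟩⟩ : (L.subgroupOf N).map ρ)) ?_
      intro a b e
      have e1 : ρ ⟨a, hLW a.2⟩ = ρ ⟨b, hLW b.2⟩ := congrArg Subtype.val e
      have e2 : ρ (⟨a, hLW a.2⟩ * (⟨b, hLW b.2⟩ : N)⁻¹) = 1 := by
        rw [map_mul, map_inv, e1, mul_inv_cancel]
      have e3 := hinj _ (L.mul_mem a.2 (L.inv_mem b.2)) e2
      have e4 : (a : G) * (b : G)⁻¹ = 1 := congrArg Subtype.val e3
      exact Subtype.ext (mul_inv_eq_one.1 e4)
    · rw [← relIndex_ker]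
      have h1 : Q.subgroupOf N ≤ ρ.ker := by
        intro s hs
        rw [MonoidHom.mem_ker]
        ext v
        rw [hρ, rho_apply, hQc s hs v v.2]
        simp
      have h2 := relIndex_dvd_of_le_left (M.subgroupOf N) h1
      rw [relIndex_subgroupOf hMW] at h2
      rw [← Nat.not_even_iff_odd, even_iff_two_dvd]
      exact fun h3 => hQ.not_dvd (h3.trans h2)
    · rintro _ ⟨l, hl, rfl⟩
      refine mem_normalizer_of_forall ?_
      rintro _ ⟨m, hm, rfl⟩
      refine ⟨l * m * l⁻¹, ?_, by rw [map_mul, map_mul, map_inv]⟩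
      exact conj_mem_of_mem_normalizer (G := G) (H := M) (g := l) (x := m) (hLM hl) hm
    · rintro _ ⟨l, hl, rfl⟩ h1 α ⟨-, hα⟩ v
      have hl1 : (l : G) ≠ 1 := by
        intro e
        apply h1
        have : l = 1 := Subtype.ext e
        rw [this, map_one]
      have hcomm : ρ l * α = α * ρ l := mem_centralizer_iff.1 hα _ rfl
      have hfix : ∀ w : W, (w : G) ∈ K ↔ ρ l w = w := by
        intro w
        rw [hC l hl hl1 w w.2, Subtype.ext_iff, hρ, rho_apply, mul_inv_eq_iff_eq_mul]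
      rw [hfix, hfix]
      have e : ρ l (α v) = α (ρ l v) := by
        have := congrArg (fun β : MulAut W => β v) hcomm
        simpa using this
      rw [e]
      exact α.injective.eq_iff.symm
  intro m hm
  refine mem_normalizer_of_forall ?_
  intro k hk
  have := (key ⟨⟨m, hMW hm⟩, hm, rfl⟩ ⟨k, hKW hk⟩).1 hk
  rwa [hρ, rho_apply] at this

end GKAux

open GKAux in
theorem C2.not_gt (h : C2 T T' K L S) (hS : S ≤ normalizer ((K ⊔ L : Subgroup G) : Set G))
    (h4 : 4 ≤ Nat.card K) (hs : NS T) (hg : GT T) : False := by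
  have hQ := h.sT
  have hA := h.AA_eq hS
  have hKQ : K ≤ S ⊓ T := hA ▸ h.K_le
  have h4L : 4 ≤ Nat.card L := h.toSy.card_eq ▸ h4
  have hLN : ∀ l ∈ L, l ∈ normalizer (T : Set G) := fun l hl => (h.sL.le hl).2
  by_cases hall : ∀ v ∈ S ⊓ T, v * v = 1 → v ∈ K
  · obtain ⟨t, ht, ht1, ht2⟩ := exists_invol h.sL.pgroup (ne_bot_of_card (by omega))
    obtain ⟨s, hsQ, hact⟩ := gt_inner hg hQ (hLN t ht) (k := 1) (by rw [pow_one, pow_two, ht2])
      (by
        intro s hsQ
        have hφ := h.phi_mem hsQ.2 (hS hsQ.1) ht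
        have hφ2 := h.phi_mul (hA ▸ hsQ) ht ht
        rw [ht2] at hφ2
        have e : t * s * t⁻¹ * s⁻¹ = (s * t * s⁻¹ * t⁻¹)⁻¹ := by group
        rw [e]
        refine ⟨(S ⊓ T).inv_mem (hKQ hφ), ?_⟩
        rw [← mul_inv_rev, ← hφ2]; group)
      (fun v hv hv2 => (h.toSy.comm (hall v hv hv2) ht).symm)
    have hs2 : s * s = 1 := by
      refine hs.eq_one_of_central (T.mul_mem hsQ.2 hsQ.2) ?_
      intro a ha
      have h1 := hact a ha
      have h2 := hact _ (T.mul_mem (T.mul_mem hsQ.2 ha) (T.inv_mem hsQ.2))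
      rw [← h1] at h2
      have h3 : t * (t * a * t⁻¹) * t⁻¹ = a := by
        calc t * (t * a * t⁻¹) * t⁻¹ = (t * t) * a * (t * t)⁻¹ := by group
          _ = a := by rw [ht2]; group
      rw [h3, h1] at h2
      calc s * s * a = s * (s * a * s⁻¹) * s⁻¹ * (s * s) := by group
        _ = a * (s * s) := by rw [← h2]
    obtain ⟨u, hu, huK⟩ := h.exists_A
    rw [hA] at hu
    have hsu := gt_central hg hQ hsQ hs2 hu
    have h1 := hact u hu.2
    rw [hsu, mul_inv_cancel_right, mul_inv_eq_iff_eq_mul] at h1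
    exact ht1 (h.phi_inj hu huK ht h1.symm)
  · push Not at hall
    obtain ⟨u, hu, hu2, huK⟩ := hall
    have hc : ∀ v ∈ S ⊓ T, v * v = 1 → ∀ s ∈ S ⊓ T, v * s = s * v :=
      fun v hv hv2 s hs' => gt_central hg hQ hv hv2 hs'
    have hKe : ∀ k ∈ K, k * k = 1 := by
      intro k hk
      have h1 := h.inv (hA ▸ hu) huK hk
      rw [hc u hu hu2 k (hKQ hk), mul_inv_cancel_right] at h1
      exact mul_eq_one_iff_eq_inv.2 h1
    have hLe := h.elemL hKe
    have hnW : ∀ g ∈ normalizer ((S ⊓ T : Subgroup G) : Set G),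
        g ∈ normalizer ((omega (S ⊓ T) hc : Subgroup G) : Set G) := by
      intro g hg'
      refine mem_normalizer_of_forall ?_
      rintro x ⟨hx, hx2⟩
      refine ⟨conj_mem_of_mem_normalizer hg' hx, ?_⟩
      calc g * x * g⁻¹ * (g * x * g⁻¹) = g * (x * x) * g⁻¹ := by group
        _ = 1 := by rw [hx2]; group
    have hLQ : ∀ l ∈ L, l ∈ normalizer ((S ⊓ T : Subgroup G) : Set G) := by
      intro l hl
      refine mem_normalizer_of_forall ?_
      intro x hx
      exact ⟨S.mul_mem (S.mul_mem (h.leL hl) hx.1) (S.inv_mem (h.leL hl)),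
        conj_mem_of_mem_normalizer (hLN l hl) hx.2⟩
    have hM : T ⊓ normalizer ((S ⊓ T : Subgroup G) : Set G) ≤ normalizer (K : Set G) := by
      refine le_normalizer_of_action (W := omega (S ⊓ T) hc) (L := L) (Q := S ⊓ T)
        (fun k hk => ⟨hKQ hk, hKe k hk⟩) (fun g hg' => hnW g hg'.2)
        (fun l hl => hnW l (hLQ l hl)) ?_
        (hQ.of_le (le_inf inf_le_right Subgroup.le_normalizer) inf_le_left) ?_ hLe h4L
        ⟨u, ⟨hu, hu2⟩, huK⟩ ?_
      · intro l hl
        refine mem_normalizer_of_forall ?_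
        intro x hx
        exact ⟨conj_mem_of_mem_normalizer (hLN l hl) hx.1,
          Subgroup.mul_mem _ (Subgroup.mul_mem _ (hLQ l hl) hx.2) (Subgroup.inv_mem _ (hLQ l hl))⟩
      · intro s hs' v hv
        exact (hc v hv.1 hv.2 s hs').symm
      · intro l hl hl1 v hv
        refine ⟨fun hk => (h.toSy.comm hk hl).symm, fun e => ?_⟩
        by_contra hk
        exact hl1 (h.phi_inj hv.1 hk hl e.symm)
    exact huK (gt_omega_le hg hQ hKQ h.neK hM hu hu2)

end CfsgLib.OTI2
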