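import Mathlib
import Cfsg.Agent.Lib.OTI2.Bas2

/-! The structure of `S` when `K L` is not normal (package GAM0).  See `plans/OTI2.md`. -/

set_option autoImplicit false

namespace CfsgLib.OTI2

open Subgroup CfsgLib.Tech

universe u

variable {G : Type u} [Group G] [Finite G] {T T' K L S : Subgroup G}

theorem g0_prod {X Y Z : Subgroup G} (hX : X ≤ Z) (hY : Y ≤ Z) :
    Nat.card X * Nat.card Y ≤ Nat.card ↥(Y ⊓ X) * Nat.card Z := by
  have h1 := card_mul_relIndex' (inf_le_right : Y ⊓ X ≤ X)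
  have h2 := card_mul_relIndex' hY
  have h3 : Y.relIndex X ≤ Y.relIndex Z := relIndex_le_of_le_right hX (index_ne_zero_of_finite)
  rw [inf_relIndex_right] at h1
  rw [← h1, ← h2, mul_assoc, mul_comm (Nat.card Y)]
  gcongr

omit [Finite G] in
theorem g0_union {X E F : Subgroup G} (h : ∀ x ∈ X, x ∈ E ∨ x ∈ F) : X ≤ E ∨ X ≤ F := by
  by_contra hn
  obtain ⟨x, hx, h1⟩ := SetLike.not_le_iff_exists.1 (not_or.1 hn).1
  obtain ⟨y, hy, h2⟩ := SetLike.not_le_iff_exists.1 (not_or.1 hn).2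
  rcases h _ (mul_mem hx hy) with e | e
  · exact h1 ((mul_mem_cancel_right ((h y hy).resolve_right h2)).1 e)
  · exact h2 ((mul_mem_cancel_left ((h x hx).resolve_left h1)).1 e)

omit [Finite G] in
theorem g0_cj_comm {E : Subgroup G} (h : ∀ a ∈ E, ∀ b ∈ E, a * b = b * a) (g : G) {a b : G} (ha : a ∈ cj g E)
    (hb : b ∈ cj g E) : a * b = b * a := by
  have := h _ (mem_cj.1 ha) _ (mem_cj.1 hb)
  calc a * b = g * (g⁻¹ * a * g * (g⁻¹ * b * g)) * g⁻¹ := by group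
    _ = _ := by rw [this]; group

omit [Finite G] in
theorem g0_cj_sq {E : Subgroup G} (h : ∀ a ∈ E, a * a = 1) (g : G) {a : G} (ha : a ∈ cj g E) : a * a = 1 := by
  have := h _ (mem_cj.1 ha)
  calc a * a = g * (g⁻¹ * a * g * (g⁻¹ * a * g)) * g⁻¹ := by group
    _ = _ := by rw [this]; group

namespace C2

theorem g0_dec (h : C2 T T' K L S) {x : G} (hx : x ∈ S ⊓ normalizer ((K ⊔ L : Subgroup G) : Set G)) :
    ∃ u ∈ AA T K L S, ∃ l ∈ L, u * l = x := by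
  obtain ⟨a, ha, l, hl, rfl⟩ := h.mem_S hx.1
  exact ⟨a, ⟨ha, (mul_mem_cancel_right (Subgroup.le_normalizer (mem_sup_right hl))).1 hx.2⟩, l, hl, rfl⟩

theorem g0_cardP (h : C2 T T' K L S) :
    Nat.card ↥(S ⊓ normalizer ((K ⊔ L : Subgroup G) : Set G)) ≤ Nat.card (AA T K L S) * Nat.card K := by
  rw [h.card_eq, ← Nat.card_prod]
  refine Nat.card_le_card_of_surjective (fun v : AA T K L S × L => ⟨v.1 * v.2, mul_mem v.1.2.1.1 (h.leL v.2.2),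
    mul_mem v.1.2.2 (Subgroup.le_normalizer (mem_sup_right v.2.2))⟩) fun ⟨x, hx⟩ => ?_
  obtain ⟨u, hu, l, hl, rfl⟩ := h.g0_dec hx
  exact ⟨(⟨u, hu⟩, ⟨l, hl⟩), rfl⟩

theorem g0_cent (h : C2 T T' K L S) {f : G} (hf : f ∈ S ⊓ normalizer ((K ⊔ L : Subgroup G) : Set G))
    (hE : f ∉ K ⊔ L) : ∃ u ∈ AA T K L S, u ∉ K ∧ ∀ e ∈ K ⊔ L, f * e = e * f → u * e = e * u := by
  obtain ⟨u, hu, l, hl, rfl⟩ := h.g0_dec hf
  refine ⟨u, hu, fun e => hE (mul_mem (mem_sup_left e) (mem_sup_right hl)), fun e he hc => ?_⟩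
  rwa [mul_assoc, h.commE (mem_sup_right hl) he, ← mul_assoc, ← mul_assoc, mul_left_inj] at hc

theorem g0_elemE (h : C2 T T' K L S) (he : ∀ k ∈ K, k * k = 1) : ∀ e ∈ K ⊔ L, e * e = 1 := fun e hE => by
  obtain ⟨k, hk, l, hl, rfl⟩ := h.mem_sup.1 hE
  rw [(show Commute l k from (h.toSy.comm hk hl).symm).mul_mul_mul_comm, he k hk, h.elemL he l hl, one_mul]

theorem g0_centK (h : C2 T T' K L S) (he : ∀ k ∈ K, k * k = 1) {f e : G}
    (hf : f ∈ S ⊓ normalizer ((K ⊔ L : Subgroup G) : Set G)) (hE : f ∉ K ⊔ L) (h1 : e ∈ K ⊔ L) (hc : f * e = e * f) :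
    e ∈ K := by
  obtain ⟨u, hu, h2, h3⟩ := h.g0_cent hf hE
  have h4 := h3 e h1 hc
  obtain ⟨k, hk, l, hl, rfl⟩ := h.mem_sup.1 h1
  rw [← mul_assoc, h.central he hu hk, mul_assoc, mul_assoc, mul_right_inj] at h4
  rwa [h.phi_inj hu.1 h2 hl h4, mul_one]

/-- counting -/
theorem g0_count (h : C2 T T' K L S) {F : Subgroup G} (hF : F ≤ S ⊓ normalizer ((K ⊔ L : Subgroup G) : Set G))
    (hc : ∀ a ∈ F, ∀ b ∈ F, a * b = b * a) (h1 : Nat.card F = Nat.card K ^ 2) (hne : ¬ F ≤ K ⊔ L) :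
    Nat.card K ^ 2 ≤ Nat.card (AA T K L S) ∧ Nat.card K ≤ Nat.card ↥((K ⊔ L) ⊓ F) ∧
      F ⊔ (K ⊔ L) = S ⊓ normalizer ((K ⊔ L : Subgroup G) : Set G) := by
  obtain ⟨f, hf, hE⟩ := SetLike.not_le_iff_exists.1 hne
  obtain ⟨u, hu, h2, h3⟩ := h.g0_cent (hF hf) hE
  have h4 : L ⊓ ((K ⊔ L) ⊓ F) = ⊥ := eq_bot_iff.2 fun l hl =>
    h.phi_inj hu.1 h2 hl.1 (h3 l hl.2.1 (hc f hf l hl.2.2))
  have h5 := g0_prod (X := (K ⊔ L) ⊓ F) (Y := L) (Z := K ⊔ L) inf_le_left le_sup_right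
  have hE : K ⊔ L ≤ S ⊓ normalizer ((K ⊔ L : Subgroup G) : Set G) := le_inf (sup_le h.leK h.leL) Subgroup.le_normalizer
  have h6 := g0_prod (X := F) (Y := K ⊔ L) le_sup_left le_sup_right
  have h7 := card_le_of_le (sup_le hF hE)
  have h8 := h.g0_cardP
  have h9 := h.card_AA_le
  rw [h4, card_bot, h.card_sup, ← h.card_eq] at h5
  rw [h1, h.card_sup] at h6
  have hq : 0 < Nat.card K := Nat.card_pos
  generalize Nat.card K = q at *
  generalize Nat.card ↥((K ⊔ L) ⊓ F) = d at *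
  have h10 : d ≤ q := Nat.le_of_mul_le_mul_right (by nlinarith) hq
  have h11 : q ^ 3 ≤ Nat.card ↥(F ⊔ (K ⊔ L)) := Nat.le_of_mul_le_mul_left
    (calc q * q ^ 3 = q ^ 2 * q ^ 2 := by ring
      _ ≤ _ := h6.trans (Nat.mul_le_mul_right _ h10)) hq
  have h12 := h8.trans (Nat.mul_le_mul_right q h9)
  refine ⟨Nat.le_of_mul_le_mul_right (by nlinarith) hq, Nat.le_of_mul_le_mul_right
    (calc q * (q ^ 2 * q) = q ^ 2 * q ^ 2 := by ring
      _ ≤ _ := h6.trans (Nat.mul_le_mul_left _ (h7.trans h12))) (by positivity),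
    eq_of_le_of_card_ge (sup_le hF hE) (h12.trans (le_of_eq_of_le (by ring) h11))⟩

end C2

theorem C2.big (h : C2 T T' K L S) (h4 : 4 ≤ Nat.card K)
    (hS : ¬ S ≤ normalizer ((K ⊔ L : Subgroup G) : Set G)) : Big T K L S := by
  have cE := h.card_sup
  have cm := fun a ha b hb => h.commE (a := a) (b := b) ha hb
  have dec := fun x hx => h.g0_dec (x := x) hx
  have nT : S ≤ normalizer (T : Set G) := h.sS.le.trans h.le_normalizer
  have cnt := fun F h1 h2 h3 h4 => h.g0_count (F := F) h1 h2 h3 h4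
  have cK := fun he f e h1 h2 h3 h4 => h.g0_centK he (f := f) (e := e) h1 h2 h3 h4
  have mK := fun e h1 h2 => h.mem_of_mem_sup (e := e) h1 h2
  have hEP : K ⊔ L ≤ S ⊓ normalizer ((K ⊔ L : Subgroup G) : Set G) := le_inf (sup_le h.leK h.leL) Subgroup.le_normalizer
  have mP : ∀ {x}, x ∈ S ⊓ normalizer ((K ⊔ L : Subgroup G) : Set G) ↔ x ∈ S ∧ cj x (K ⊔ L) = K ⊔ L := by
    intro x; rw [mem_inf, mem_normalizer_iff_cj]
  set P := S ⊓ normalizer ((K ⊔ L : Subgroup G) : Set G) with hP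
  have PS : P ≤ S := inf_le_left
  obtain ⟨σ, hσ, hσ1, hσ2⟩ := exists_mem_normalizer_of_lt h.sS.pgroup
    (PS.lt_of_ne fun e => hS (e ▸ inf_le_right))
  have cjP : ∀ {τ}, τ ∈ normalizer (P : Set G) → cj τ (K ⊔ L) ≤ P := fun hτ =>
    cj_le_iff.2 fun x hx => conj_mem_of_mem_normalizer hτ (hEP hx)
  have hne : ¬ cj σ (K ⊔ L) ≤ K ⊔ L := fun e => hσ1 ⟨hσ, mem_normalizer_of_cj_le e⟩
  obtain ⟨c1, c2, c3⟩ := cnt _ (cjP hσ2) (fun a ha b hb => g0_cj_comm cm σ ha hb) (by rw [card_cj, cE]) hne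
  have he : ∀ k ∈ K, k * k = 1 := by
    by_contra! hn
    have := L33.card_le_two_mul (Y := AA T K L S) (K := K) fun g hg g' hg' h1 h2 =>
      h.mul_mem_of_not_elem hn (inv_mem hg) hg' (fun e => h1 (inv_mem_iff.1 e)) h2
    rw [inf_eq_right.2 h.K_le] at this
    nlinarith
  have eE := h.g0_elemE he
  obtain ⟨f0, hf0, hf1⟩ := SetLike.not_le_iff_exists.1 hne
  have EF : (K ⊔ L) ⊓ cj σ (K ⊔ L) = K := eq_of_le_of_card_ge
    (fun e hx => cK he f0 e (cjP hσ2 hf0) hf1 hx.1 (g0_cj_comm cm σ hf0 hx.2)) c2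
  have KF : K ≤ cj σ (K ⊔ L) := EF.ge.trans inf_le_right
  have FT : ∀ x ∈ cj σ (K ⊔ L), x ∈ T → x ∈ K := by
    have h1 : ∀ x ∈ cj σ (K ⊔ L), x ∈ T → x ∈ cj σ K := fun x hx hT =>
      mem_cj.2 (mK _ (mem_cj.1 hx) (conj_mem_of_mem_normalizer' (nT hσ) hT))
    rwa [← eq_of_le_of_card_ge (fun k hk => h1 k (KF hk) (h.sK.le hk).1 : K ≤ cj σ K) (card_cj _ _).le] at h1
  have fe : ∀ x ∈ P, ∃ f ∈ cj σ (K ⊔ L), ∃ e ∈ K ⊔ L, f * e = x := fun x hx => by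
    have h2 : x ∈ ((cj σ (K ⊔ L) ⊔ (K ⊔ L) : Subgroup G) : Set G) := c3 ▸ hx
    rwa [coe_mul_of_left_le_normalizer_right _ _ ((cjP hσ2).trans inf_le_right)] at h2
  have inv : ∀ x ∈ P, x * x = 1 → x ∈ K ⊔ L ∨ x ∈ cj σ (K ⊔ L) := fun x hx h2 => by
    obtain ⟨f, hf, e, hE, rfl⟩ := fe x hx
    by_cases h1 : f ∈ K ⊔ L
    · exact Or.inl (mul_mem h1 hE)
    refine Or.inr (mul_mem hf (KF (cK he f e (cjP hσ2 hf) h1 hE ?_)))
    rw [eq_inv_of_mul_eq_one_left h2, mul_inv_rev, inv_eq_of_mul_eq_one_right (eE e hE),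
      inv_eq_of_mul_eq_one_right (g0_cj_sq eE σ hf)]
  have two : ∀ τ ∈ S, cj τ (K ⊔ L) ≤ P → τ ∈ P ∨ σ⁻¹ * τ ∈ P := fun τ hτ h1 =>
    (g0_union fun x hx => inv x (h1 hx) (g0_cj_sq eE τ hx)).imp (fun e => ⟨hτ, mem_normalizer_of_cj_le e⟩) fun e =>
      ⟨S.mul_mem (S.inv_mem hσ) hτ, mem_normalizer_of_cj_le
        ((cj_mul _ _ _).trans_le ((cj_mono _ e).trans_eq (cj_inv_cj σ _)))⟩
  have swp : ∀ τ, σ⁻¹ * τ ∈ P → cj τ (K ⊔ L) = cj σ (K ⊔ L) := fun τ h1 => by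
    rw [← mul_inv_cancel_left σ τ, cj_mul, (mP.1 h1).2]
  have nP : S ≤ normalizer (P : Set G) := by
    by_contra hn
    obtain ⟨τ, hτ, hτ1, hτ2⟩ := exists_mem_normalizer_of_lt h.sS.pgroup
      ((inf_le_left : S ⊓ normalizer (P : Set G) ≤ S).lt_of_ne fun e => hn (e ▸ inf_le_right))
    have PP : P ≤ S ⊓ normalizer (P : Set G) := le_inf PS Subgroup.le_normalizer
    have h1 : cj τ (K ⊔ L) ≤ S ⊓ normalizer (P : Set G) :=
      cj_le_iff.2 fun x hx => conj_mem_of_mem_normalizer hτ2 (PP (hEP hx))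
    have h2 : ∀ g ∈ cj τ (K ⊔ L), g ∈ P ∨ σ⁻¹ * g ∈ P := fun g hg => two g (h1 hg).1 (cjP (h1 hg).2)
    by_cases h3 : cj τ (K ⊔ L) ≤ P
    · exact hτ1 ((two τ hτ h3).elim (fun e => PP e) fun e =>
        (mul_mem_cancel_left (inv_mem (⟨hσ, hσ2⟩ : σ ∈ S ⊓ normalizer (P : Set G)))).1 (PP e))
    obtain ⟨ρ, hρ, hρ1⟩ := SetLike.not_le_iff_exists.1 h3
    have h5 := swp ρ ((h2 ρ hρ).resolve_left hρ1)
    have h6 := L33.card_le_two_mul (Y := cj τ (K ⊔ L)) (K := P) fun g hg g' hg' a b => by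
      have := mul_mem (inv_mem ((h2 g hg).resolve_left a)) ((h2 g' hg').resolve_left b)
      rwa [show (σ⁻¹ * g)⁻¹ * (σ⁻¹ * g') = g⁻¹ * g' by group] at this
    have h7 : cj τ (K ⊔ L) ⊓ P ≤ K := fun w hw => by
      have h8 : w ∈ cj σ (K ⊔ L) ↔ w ∈ K ⊔ L := by
        rw [← h5, mem_cj, mul_assoc, g0_cj_comm cm τ hw.1 hρ, inv_mul_cancel_left]
      rw [← EF, mem_inf, h8, and_self]
      exact (inv w hw.2 (g0_cj_sq eE τ hw.1)).elim id h8.1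
    have h8 := card_le_of_le h7
    rw [card_cj, cE] at h6
    nlinarith
  have out : ∀ s ∈ S, s ∉ P → σ⁻¹ * s ∈ P := fun s hs h1 => (two s hs (cjP (nP hs))).resolve_left h1
  have nK : S ≤ normalizer (K : Set G) := fun s hs => mem_normalizer_of_forall fun k hk => by
    by_cases h1 : s ∈ P
    · exact h.conj_mem (nT hs) h1.2 hk
    · exact FT _ (swp s (out s hs h1) ▸ conj_mem_cj.2 (mem_sup_left hk))
        (conj_mem_of_mem_normalizer (nT hs) (h.sK.le hk).1)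
  have cmem : ∀ s ∈ S ⊓ T, ∀ l ∈ L, s * l * s⁻¹ * l⁻¹ ∈ AA T K L S := fun s hs l hl => by
    have h1 := mul_mem (conj_mem_of_mem_normalizer (nP hs.1) (hEP (mem_sup_right hl))) (inv_mem (hEP (mem_sup_right hl)))
    refine ⟨⟨h1.1, ?_⟩, h1.2⟩
    rw [mul_assoc, mul_assoc, ← mul_assoc l]
    exact mul_mem hs.2 (conj_mem_of_mem_normalizer (h.b2_LN hl) (inv_mem hs.2))
  refine ⟨he, fun l hl h1 k hk => ?_, fun u hu h2 => (inv u ⟨hu.1.1, hu.2⟩ h2).elim (mK u · hu.1.2) (FT u · hu.1.2),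
    fun a ha b hb h1 h2 => ⟨mul_mem ha hb, ?_⟩, nK, cmem, fun s hs h1 u hu => ?_⟩
  · obtain ⟨F, h2, h3, h5⟩ := L33.exists_image (Y := AA T K L S) (F := K) (s := l)
      (fun u hu v hv => h.central he hu hv) fun u hu => h.phi_mem hu.1.2 hu.2 hl
    have h6 : AA T K L S ⊓ centralizer {l} ≤ K := fun u hu => by
      by_contra hn
      exact h1 (h.phi_inj hu.1.1 hn hl (mem_centralizer_singleton_iff.1 hu.2))
    have h7 := Nat.mul_le_mul_left (Nat.card F) (card_le_of_le h6)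
    obtain rfl := eq_of_le_of_card_ge h2 (Nat.le_of_mul_le_mul_right (c := Nat.card K) (by nlinarith) Nat.card_pos)
    obtain ⟨u, hu, e⟩ := h3 k hk
    exact ⟨u, hu, by rw [e, mul_inv_cancel_right]⟩
  · have := mul_mem (inv_mem (out a⁻¹ (inv_mem ha.1) fun e => h1 ⟨ha, (inv_mem_iff.1 e).2⟩))
      (out b hb.1 fun e => h2 ⟨hb, e.2⟩)
    rw [show (σ⁻¹ * a⁻¹)⁻¹ * (σ⁻¹ * b) = a * b by group] at this
    exact this.2
  · obtain ⟨f, hf, e, hE, rfl⟩ := fe u ⟨hu.1.1, hu.2⟩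
    rw [← swp s (out s hs.1 fun e => h1 ⟨hs, e.2⟩), mem_cj, h.mem_sup] at hf
    obtain ⟨k, hk, l, hl, hf⟩ := hf
    have h2 := cmem s hs l hl
    have h3 := conj_mem_of_mem_normalizer (nK hs.1) hk
    have h5 : f * e = s * k * s⁻¹ * (s * l * s⁻¹ * l⁻¹) * (l * e) := by
      rw [show f = s * (s⁻¹ * f * s) * s⁻¹ by group, ← hf]; group
    have h6 : l * e ∈ K := mK _ (mul_mem (mem_sup_right hl) hE)
      ((T.mul_mem_cancel_left (T.mul_mem (h.sK.le h3).1 h2.1.2)).1 (h5 ▸ hu.1.2))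
    refine ⟨l, hl, ?_⟩
    have := mul_mem (conj_mem_of_mem_normalizer (nK h2.1.1) (inv_mem h6)) (inv_mem h3)
    rw [h5]
    convert this using 1
    group

end CfsgLib.OTI2
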