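import Mathlib
import Cfsg.Agent.Lib.OTI2.Bas2
import Cfsg.Agent.Lib.Gold.Tools

/-! The parity lemma and the elementary case (package PAR).  See `plans/OTI2.md`. -/

set_option autoImplicit false

namespace CfsgLib.OTI2

open Subgroup CfsgLib.Tech CfsgLib.Gold

universe u

variable {G : Type u} [Group G] [Finite G] {T T' K L S H : Subgroup G}

theorem par_ext (hS : IsSylowIn 2 S H) {m : G} (hm : m ∈ H) {X : Subgroup G} (hX : cj m S ≤ X)
    (h2 : IsPGroup 2 K) (hK : K ≤ H) (hKX : K ≤ X) : ∃ d ∈ H ⊓ X, cj d K ≤ cj m S :=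
  ((hS.cj_of_mem hm).of_le (le_inf (hS.cj_of_mem hm).le hX) inf_le_left).exists_cj_le h2 (le_inf hK hKX)

theorem par_pair (hS : IsSylowIn 2 S H) (hK : K ≤ S) (hc : S ≤ centralizer (K : Set G)) {k g : G}
    (hk : k ∈ K) (hg : g ∈ H) (h1 : g * k * g⁻¹ ∈ S) (h2 : g * k * g⁻¹ ∉ K) :
    ∃ h ∈ H, cj h K ≤ S ∧ K ≤ cj h S ∧ cj h K ≠ K := by
  have K2 := hS.pgroup.to_le hK
  obtain ⟨c, hc', e⟩ := par_ext hS hg (X := centralizer {g * k * g⁻¹}) (by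
    rw [← cj_centralizer_singleton]
    exact cj_mono g (hc.trans (centralizer_le (Set.singleton_subset_iff.2 hk)))) K2 (hK.trans hS.le)
    fun x hx => mem_centralizer_singleton_iff.2 (hc h1 x hx)
  have hm := mul_mem (inv_mem hg) hc'.1
  have e1 : cj (g⁻¹ * c) K ≤ S := by rw [cj_mul, ← cj_le_cj_iff g, cj_cj_inv]; exact e
  obtain ⟨d, hd, e2⟩ := par_ext hS hm (X := centralizer (cj (g⁻¹ * c) K : Set G)) (by
    rw [← cj_centralizer]; exact cj_mono _ hc) K2 (hK.trans hS.le) fun x hx y hy => (hc (e1 hy) x hx).symm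
  have e3 : cj (d⁻¹ * (g⁻¹ * c)) K = cj (g⁻¹ * c) K := by
    rw [cj_mul]; exact mem_normalizer_iff_cj.1 (centralizer_le_normalizer _ (inv_mem hd.2))
  refine ⟨_, mul_mem (inv_mem hd.1) hm, e3 ▸ e1, by rw [cj_mul, ← cj_le_cj_iff d, cj_cj_inv]; exact e2,
    fun e4 => h2 ?_⟩
  have := mem_cj.1 ((e3.symm.trans e4).ge hk)
  rwa [show (g⁻¹ * c)⁻¹ * k * (g⁻¹ * c) = c⁻¹ * (g * k * g⁻¹ * c) by group, ← mem_centralizer_singleton_iff.1 hc'.2,
    inv_mul_cancel_left] at this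

/-- an element centralised by a Sylow subgroup is not moved by a shear -/
theorem par_no (hS : IsSylowIn 2 S H) {a z y : G} (ha : S ≤ centralizer {a}) (hz : S ≤ centralizer {z})
    (z2 : z * z = 1) (hy : y ∈ H) (yz : y * z = z * y) (ya : y * a * y⁻¹ = z * a) : z = 1 := by
  have c := @mem_centralizer_singleton_iff G _
  obtain ⟨n, hn, hw⟩ := (hS.of_le (K := H ⊓ centralizer {a} ⊓ centralizer {z}) (le_inf (le_inf hS.le ha) hz)
    (inf_le_left.trans inf_le_left)).frattini (g := y) (mem_normalizer_of_forall fun x hx => by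
      have h1 : Commute (y * x * y⁻¹) z := ((Commute.mul_left yz (c.1 hx.2)).mul_left (Commute.inv_left yz))
      have h2 := (Commute.conj_iff y).2 (c.1 hx.1.2)
      rw [ya] at h2
      exact ⟨⟨H.mul_mem (H.mul_mem hy hx.1.1) (H.inv_mem hy), c.2 (by simpa using (h1.inv_right.mul_right h2).eq)⟩, c.2 h1⟩)
  have wz : Commute (n * y) z := Commute.mul_left (c.1 hn.2) yz
  have wa : n * y * a * (n * y)⁻¹ = z * a := by
    rw [show n * y * a * (n * y)⁻¹ = n * (y * a * y⁻¹) * n⁻¹ by group, ya,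
      (Commute.mul_right (c.1 hn.2) (c.1 hn.1.2)).eq, mul_inv_cancel_right]
  have wH := mul_mem hn.1.1 hy
  generalize n * y = w at hw wz wa wH
  have k : ∀ j : ℕ, w ^ j * a * (w ^ j)⁻¹ = z ^ j * a := fun j => by
    induction j with
    | zero => simp
    | succ j ih =>
      calc _ = w * (w ^ j * a * (w ^ j)⁻¹) * w⁻¹ := by rw [pow_succ']; group
        _ = _ := by rw [ih, ← mul_assoc, (wz.pow_right j).eq, mul_assoc (z ^ j), mul_assoc (z ^ j), wa, pow_succ, mul_assoc]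
  obtain ⟨i, _, ⟨m, rfl⟩, e⟩ := Nat.exists_eq_two_pow_mul_odd (orderOf_pos w).ne'
  have := hS.le_of_normalizes (isPGroup_zpowers_of_pow (k := i) (x := w ^ (2 * m + 1))
    (by rw [← pow_mul, mul_comm, ← e, pow_orderOf_eq_one])) (zpowers_le.2 (pow_mem wH _))
    (zpowers_le.2 (pow_mem hw _)) (mem_zpowers _)
  have := k (2 * m + 1)
  rwa [c.1 (ha ‹_›), mul_inv_cancel_right, pow_succ, pow_mul, pow_two, z2, one_pow, one_mul, right_eq_mul] at this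

theorem par (hS : IsSylowIn 2 S H) (hT : H ≤ normalizer (T : Set G)) (hK : K ≤ S ⊓ T)
    (hc : S ≤ centralizer (K : Set G)) (he : ∀ k ∈ K, k * k = 1)
    (hn : ∀ s ∈ S, ∀ f ∈ S ⊓ T, s * f * s⁻¹ * f⁻¹ ∈ K)
    (hsh : ∀ f ∈ S ⊓ T, f ∉ K → f * f = 1 → ∀ k ∈ K, ∃ x ∈ S, x * f * x⁻¹ = k * f) {k g : G}
    (hk : k ∈ K) (hg : g ∈ H) (h1 : g * k * g⁻¹ ∈ S) (h2 : g * k * g⁻¹ ∉ K) :
    ∃ h ∈ H, cj h K ≤ S ∧ cj h K ⊓ K = ⊥ := by
  have hKS := hK.trans inf_le_left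
  obtain ⟨h, hh, h3, h4, h5⟩ := par_pair hS hKS hc hk hg h1 h2
  refine ⟨h, hh, h3, eq_bot_iff.2 fun z hz => ?_⟩
  obtain ⟨a, ha, ha'⟩ := SetLike.not_le_iff_exists.1 fun e : K ≤ cj h K =>
    h5 (eq_of_le_of_card_ge e (card_cj h K).le).symm
  have hz' := mem_cj.1 hz.1
  obtain ⟨x, hx, e⟩ := hsh (h⁻¹ * a * h) ⟨mem_cj.1 (h4 ha), conj_mem_of_mem_normalizer' (hT hh) (hK ha).2⟩
    (fun e => ha' (mem_cj.2 e)) (by rw [show h⁻¹ * a * h * (h⁻¹ * a * h) = h⁻¹ * (a * a) * h by group, he a ha]; simp)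
    _ hz'
  refine par_no hS (a := a) (y := h * x * h⁻¹) (hc.trans (centralizer_le (Set.singleton_subset_iff.2 ha)))
    (hc.trans (centralizer_le (Set.singleton_subset_iff.2 hz.2))) (he z hz.2)
    (mul_mem (mul_mem hh (hS.le hx)) (inv_mem hh)) ?_ ?_
  · calc _ = h * (x * (h⁻¹ * z * h)) * h⁻¹ := by group
      _ = _ := by rw [← hc hx _ hz']; group
  · calc _ = h * (x * (h⁻¹ * a * h) * x⁻¹) * h⁻¹ := by group
      _ = _ := by rw [e]; group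

theorem C2.sc_elem (h : C2 T T' K L S) (hS : S ≤ normalizer ((K ⊔ L : Subgroup G) : Set G))
    (he : ∀ k ∈ K, k * k = 1) :
    ∃ B : Subgroup G, SC B T ∧ B ≠ ⊥ ∧ ∀ a ∈ B, ∀ b ∈ B, a * b = b * a := by
  have eA := h.AA_eq hS
  have KA : K ≤ S ⊓ T := eA ▸ h.K_le
  by_cases hsc : ∀ a ∈ K, ∀ g ∈ T, g * a * g⁻¹ ∈ S ⊓ T → g * a * g⁻¹ ∈ K
  · exact ⟨K, sc_of_isSylowIn h.sT KA hsc, h.neK, fun a ha b hb => h.commK ha hb⟩
  push Not at hsc
  obtain ⟨k, hk, g, hg, h1, h2⟩ := hsc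
  have ph : ∀ f ∈ S ⊓ T, ∀ l ∈ L, f * l * f⁻¹ * l⁻¹ ∈ K := fun f hf l hl => h.phi_mem hf.2 (hS hf.1) hl
  obtain ⟨m, hm, h3, h4⟩ := par h.sS h.le_normalizer KA (fun s hs k hk => by
      obtain ⟨a, ha, l, hl, rfl⟩ := h.mem_S hs
      rw [← mul_assoc, ← h.central he (eA.ge ha) hk, mul_assoc, h.toSy.comm hk hl, mul_assoc]) he
    (fun s hs f hf => by
      obtain ⟨a, ha, l, hl, rfl⟩ := h.mem_S hs
      rw [show a * l * f * (a * l)⁻¹ * f⁻¹ = a * (f * l * f⁻¹ * l⁻¹)⁻¹ * a⁻¹ * (a * f * a⁻¹ * f⁻¹) by group]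
      exact mul_mem (h.conj_mem (Subgroup.le_normalizer ha.2) (hS ha.1) (inv_mem (ph f hf l hl)))
        (h.comm_mem (eA.ge ha) (eA.ge hf)))
    (fun f hf f1 _ k hk => by
      obtain ⟨l, hl, e⟩ := h.phi_surj (eA.ge hf) f1 (inv_mem hk)
      exact ⟨l, h.leL hl, by rw [← inv_inv k, ← e]; group⟩) hk (mem_sup_left hg) h1.1 h2
  have h5 : cj m K ≤ S ⊓ T := le_inf h3 (cj_le_iff.2 fun x hx =>
    conj_mem_of_mem_normalizer (h.le_normalizer hm) (KA hx).2)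
  obtain ⟨l, hl, l1⟩ := (bot_or_exists_ne_one L).resolve_left h.toSy.symm.neK
  have bij := (show Function.Injective fun f : cj m K => (⟨_, ph f (h5 f.2) l hl⟩ : K) from fun u v e =>
    Subtype.ext (inv_mul_eq_one.1 (mem_bot.1 (h4.le ⟨(cj m K).mul_mem ((cj m K).inv_mem v.2) u.2, h.mem_of_phi_eq (h5 u.2) (h5 v.2) hl l1
      (mul_right_cancel (congrArg Subtype.val e))⟩))).symm).bijective_of_nat_card_le (card_cj m K).ge
  have dec : ∀ a ∈ S ⊓ T, ∃ f ∈ cj m K, ∃ k ∈ K, a = f * k := fun a ha => by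
    obtain ⟨f, e⟩ := bij.2 ⟨_, ph a ha l hl⟩
    exact ⟨f, f.2, _, h.mem_of_phi_eq ha (h5 f.2) hl l1 (mul_right_cancel (congrArg Subtype.val e)).symm, by group⟩
  refine ⟨S ⊓ T, sc_of_isSylowIn h.sT le_rfl fun _ _ _ _ h => h, fun e => h.neK (eq_bot_iff.2 (e ▸ KA)),
    fun a ha b hb => ?_⟩
  obtain ⟨f, hf, k, hk, rfl⟩ := dec a ha
  obtain ⟨f', hf', k', hk', e⟩ := dec b hb
  have c : Commute f f' := by
    simpa [mul_assoc] using (Commute.conj_iff m).2 (h.commK (mem_cj.1 hf) (mem_cj.1 hf'))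
  exact Commute.mul_left (e ▸ c.mul_right (h.central he (eA.ge (h5 hf)) hk')) (h.central he (eA.ge hb) hk).symm

end CfsgLib.OTI2
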