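import Mathlib
import Cfsg.Agent.Lib.OTI2.Par
import Cfsg.Agent.Lib.OTI2.GTW

/-! The case where `K L` is normal on neither side (package GAM1).  See `plans/OTI2.md`. -/

set_option autoImplicit false

namespace CfsgLib.OTI2

open Subgroup CfsgLib.Tech CfsgLib.Gold

universe u

variable {G : Type u} [Group G] [Finite G] {T T' K L S : Subgroup G}

theorem C2.exists_sq (h : C2 T T' K L S) (hb : Big T K L S)
    (hf : ∀ k ∈ K, k ≠ 1 → ∀ l ∈ L,
      ∃ v ∈ normalizer ((K ⊔ L : Subgroup G) : Set G), v * k * v⁻¹ * k⁻¹ = l)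
    {k : G} (hk : k ∈ K) : ∃ u ∈ AA T K L S, u * u = k := by
  by_cases hk1 : k = 1
  · exact ⟨1, one_mem _, by rw [hk1, one_mul]⟩
  obtain ⟨u0, hu0, h1⟩ := h.exists_A
  obtain ⟨⟨l, hl⟩, hl1⟩ := ne_bot_iff_exists_ne_one.1 h.toSy.symm.neK
  replace hl1 : l ≠ 1 := fun e => hl1 (Subtype.ext e)
  have h2 := h.sq_mem hu0
  have h3 : u0 * u0 ≠ 1 := fun e => h1 (hb.noinv u0 hu0 e)
  obtain ⟨v, hv, e1⟩ := hf _ h2 h3 l hl
  obtain ⟨w, hw, e2⟩ := hf k hk hk1 l hl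
  obtain ⟨u, hu, e3⟩ := hb.full l hl hl1 _ (mul_mem hk (inv_mem h2))
  have gE := mul_mem (mul_mem (inv_mem hw) hu.2) hv
  have e4 : w⁻¹ * u * v * (u0 * u0) * (w⁻¹ * u * v)⁻¹ = k := by
    calc _ = w⁻¹ * (u * (v * (u0 * u0) * v⁻¹ * (u0 * u0)⁻¹) * u⁻¹ * (u * (u0 * u0) * u⁻¹)) * w := by group
      _ = w⁻¹ * (u * l * u⁻¹ * l⁻¹ * (l * (u0 * u0))) * w := by
        rw [e1, h.central hb.elem hu h2]; group
      _ = w⁻¹ * (w * k * w⁻¹ * k⁻¹ * k) * w := by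
        rw [e3, e2, ← h.toSy.comm h2 hl, ← h.toSy.comm hk hl]; group
      _ = k := by group
  generalize w⁻¹ * u * v = g at gE e4
  have gT := h.ti g _ (h.sK.le h2).1 h3 (e4 ▸ (h.sK.le hk).1)
  have hA : IsSylowIn 2 (AA T K L S) (T ⊓ normalizer ((K ⊔ L : Subgroup G) : Set G) ⊓ centralizer (K : Set G)) := by
    refine isSylowIn_of_maximal (h.sS.pgroup.to_le (inf_le_left.trans inf_le_left))
      (fun a ha => ⟨⟨ha.1.2, ha.2⟩, fun c hc => (h.central hb.elem ha hc).symm⟩) fun R hR h4 h5 r hr => ?_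
    obtain ⟨a, ha, e⟩ := hb.full l hl hl1 _ (h.phi_mem (h5 hr).1.1 (h5 hr).1.2 hl)
    have h6 := h.mem_KK_of_comm (h.sL.le hl).1 hl1 (T.mul_mem (T.inv_mem ha.1.2) (h5 hr).1.1) (by
      calc a⁻¹ * r * l = a⁻¹ * (r * l * r⁻¹ * l⁻¹) * l * r := by group
        _ = _ := by rw [← e]; group)
    have h7 : a⁻¹ * r ∈ R ⊓ KK T T' := ⟨R.mul_mem (R.inv_mem (h4 ha)) hr, h6⟩
    rw [h.sK.eq_of_le (hR.to_le inf_le_left) (le_inf (h.K_le.trans h4) h.sK.le) inf_le_right] at h7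
    exact (mul_mem_cancel_left (inv_mem ha)).1 (h.K_le h7)
  obtain ⟨b, hb1, hb2⟩ := hA.exists_conj_mem (x := g * u0 * g⁻¹)
    ⟨⟨conj_mem_of_mem_normalizer gT hu0.1.2, (normalizer _).mul_mem ((normalizer _).mul_mem gE hu0.2)
      ((normalizer _).inv_mem gE)⟩, fun c hc => by
      have := h.central hb.elem hu0 (h.conj_mem (inv_mem gT) (inv_mem gE) hc)
      calc c * (g * u0 * g⁻¹) = g * (g⁻¹ * c * g⁻¹⁻¹ * u0) * g⁻¹ := by group
        _ = _ := by rw [← this]; group⟩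
    (cj_zpowers g u0 ▸ isPGroup_cj g (isPGroup_zpowers_of_mem h.sS.pgroup hu0.1.1))
  exact ⟨_, hb2, by rw [conj_mul, conj_mul, e4, ← hb1.2 k hk, mul_inv_cancel_right]⟩

theorem C2.not_big (h : C2 T T' K L S) (hb : Big T K L S) (h4 : 4 ≤ Nat.card K)
    (hS : ¬ S ≤ normalizer ((K ⊔ L : Subgroup G) : Set G))
    (hsq : ∀ k ∈ K, ∃ u ∈ AA T K L S, u * u = k) (hs : NS T) : False := by
  have ce := fun {u k} (hu : u ∈ AA T K L S) (hk : k ∈ K) => h.central hb.elem hu hk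
  have AQ : AA T K L S ≤ S ⊓ T := inf_le_left
  have KQ : K ≤ S ⊓ T := h.K_le.trans AQ
  obtain ⟨σ, hσ, hσ1⟩ : ∃ s ∈ S ⊓ T, s ∉ AA T K L S := by
    by_contra! hn
    refine hS fun s hs => ?_
    obtain ⟨a, ha, l, hl, rfl⟩ := h.mem_S hs
    exact mul_mem (hn a ha).2 (Subgroup.le_normalizer (mem_sup_right hl))
  have t0 : ∀ s l : G, s * (s * l * s⁻¹ * l⁻¹) * s⁻¹ * (s * l * s⁻¹ * l⁻¹) = s * s * l * (s * s)⁻¹ * l⁻¹ :=
    fun s l => by group
  have t1 : ∀ s ∈ S ⊓ T, s ∉ AA T K L S → ∀ u ∈ AA T K L S, s * u * s⁻¹ * u⁻¹ ∈ K := fun s hs h1 u hu => by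
    obtain ⟨l, hl, h2⟩ := hb.surj s hs h1 u hu
    have h3 := hb.two s hs s hs h1 h1
    have h5 := h.phi_mem h3.1.2 h3.2 hl
    rw [← t0] at h5
    have := mul_mem (mul_mem (mul_mem (conj_mem_of_mem_normalizer (hb.nrmK hs.1) (inv_mem h2)) h5)
      (inv_mem (h.sq_mem (hb.cmem s hs l hl)))) h2
    convert this using 1
    group
  have cQ : ∀ s ∈ S ⊓ T, ∀ k ∈ K, s * k = k * s := fun s hs k hk => by
    by_cases h1 : s ∈ AA T K L S
    · exact ce h1 hk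
    obtain ⟨u, hu, rfl⟩ := hsq k hk
    have h2 := t1 s hs h1 u hu
    rw [← mul_inv_eq_iff_eq_mul, ← conj_mul, ← inv_mul_cancel_right (s * u * s⁻¹) u,
      (show Commute u _ from ce hu h2).mul_mul_mul_comm, hb.elem _ h2, one_mul]
  have cA : ∀ v ∈ AA T K L S, ∀ u ∈ AA T K L S, v * u = u * v := fun v hv u hu => by
    obtain ⟨l, hl, h2⟩ := hb.surj σ hσ hσ1 u hu
    have h3 := t1 σ hσ hσ1 v hv
    have h5 := hb.cmem σ hσ l hl
    have h6 := h.phi_mem hv.1.2 hv.2 hl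
    have h7 := cQ σ hσ _ h6
    generalize hc : σ * l * σ⁻¹ * l⁻¹ = c at h2 h5
    generalize hk : σ * v * σ⁻¹ * v⁻¹ = k at h3
    have h8 : Commute k (v * c * l * v⁻¹) := ((((show Commute k v from (ce hv h3).symm).mul_right
      (ce h5 h3).symm).mul_right (h.toSy.comm h3 hl)).mul_right (ce (inv_mem hv) h3).symm)
    have h9 : v * c = c * v := by
      calc v * c = v * c * l * v⁻¹ * l⁻¹ * (v * l * v⁻¹ * l⁻¹)⁻¹ * v := by group
        _ = k * (v * c * l * v⁻¹) * k⁻¹ * (c * l)⁻¹ * (c * (v * l * v⁻¹ * l⁻¹)⁻¹) * v := by rw [h8.eq]; group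
        _ = σ * (v * l * v⁻¹ * l⁻¹) * σ⁻¹ * ((v * l * v⁻¹ * l⁻¹)⁻¹ * c) * v := by
          rw [ce h5 (inv_mem h6), ← hk, ← hc]; group
        _ = _ := by rw [h7]; group
    have h10 := (show Commute v _ from ce hv (inv_mem h2)).mul_right h9
    rwa [mul_inv_rev, inv_inv, inv_mul_cancel_right] at h10
  have hn : ∀ s ∈ S ⊓ T, ∀ f ∈ S ⊓ T ⊓ T, s * f * s⁻¹ * f⁻¹ ∈ K := fun s hs f hf => by
    by_cases h1 : s ∈ AA T K L S <;> by_cases h2 : f ∈ AA T K L S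
    · exact h.comm_mem h1 h2
    · simpa [mul_assoc] using inv_mem (t1 f hf.1 h2 s h1)
    · exact t1 s hs h1 f h2
    · simpa [mul_assoc] using inv_mem (t1 s⁻¹ (inv_mem hs) (fun e => h1 (inv_mem_iff.1 e)) _ (hb.two s hs f hf.1 h1 h2))
  have idx : ∀ Y ≤ S ⊓ T, Nat.card Y ≤ 2 * Nat.card ↥(Y ⊓ AA T K L S) := fun Y hY =>
    L33.card_le_two_mul fun g hg g' hg' h1 h2 => hb.two _ (inv_mem (hY hg)) _ (hY hg') (fun e => h1 (inv_mem_iff.1 e)) h2
  have hsh : ∀ f ∈ S ⊓ T ⊓ T, f ∉ K → f * f = 1 → ∀ c ∈ K, ∃ x ∈ S ⊓ T, x * f * x⁻¹ = c * f := fun f hf h3 h5 c hc => by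
    have h6 : f ∉ AA T K L S := fun e => h3 (hb.noinv f e h5)
    obtain ⟨u, hu, rfl⟩ := hsq c hc
    obtain ⟨l, hl, h7⟩ := hb.surj f hf.1 h6 u hu
    have h8 := t0 f l
    rw [h5, one_mul, inv_one, mul_one, mul_inv_cancel] at h8
    have h9 := hb.cmem f hf.1 l hl
    generalize f * l * f⁻¹ * l⁻¹ = d at h7 h8 h9
    refine ⟨d, AQ h9, ?_⟩
    calc d * f * d⁻¹ = d * (f * d * f⁻¹)⁻¹ * f := by group
      _ = d * u⁻¹ * u * (d * u⁻¹ * u) * f := by rw [eq_inv_of_mul_eq_one_left h8]; group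
      _ = _ := by rw [(show Commute u _ from ce hu h7).mul_mul_mul_comm, hb.elem _ h7, one_mul]
  have sc : SC K T := sc_of_isSylowIn h.sT KQ fun k hk g hg h1 => by
    by_contra h2
    obtain ⟨x, -, h3, h5⟩ := par h.sT Subgroup.le_normalizer (le_inf KQ (KQ.trans inf_le_right))
      (fun s hs c hc => (cQ s hs c hc).symm) hb.elem hn hsh hk hg h1 h2
    have h6 := idx _ h3
    have h7 : cj x K ⊓ AA T K L S ≤ ⊥ := fun a ha => h5 ▸ ⟨ha.1, hb.noinv a ha.2 (by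
      rw [← mul_inv_cancel_left x a, ← mul_inv_cancel_right (x⁻¹ * a) x, ← mul_assoc x, conj_mul,
        hb.elem _ (mem_cj.1 ha.1), mul_one, mul_inv_cancel])⟩
    rw [le_bot_iff.1 h7, card_bot, card_cj] at h6
    omega
  have gt := gt_of_sc hs sc h.neK fun a ha b hb => h.commK ha hb
  have iK := fun {v} hv h2 => gt_sc gt h.sT sc KQ h.neK (v := v) hv h2
  obtain ⟨⟨l, hl⟩, hl1⟩ := ne_bot_iff_exists_ne_one.1 h.toSy.symm.neK
  have cardA : Nat.card K * Nat.card K ≤ Nat.card (AA T K L S) := by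
    rw [L33.tool_orbit (AA T K L S) l]
    refine Nat.mul_le_mul (Set.ncard_le_ncard (s := (K : Set G)) fun k hk => ?_)
      (card_le_of_le (le_inf h.K_le fun k hk => mem_centralizer_singleton_iff.2 (h.toSy.comm hk hl)))
    obtain ⟨u, hu, e⟩ := hb.full l hl (fun e => hl1 (Subtype.ext e)) k hk
    exact ⟨u, hu, by rw [← e, inv_mul_cancel_right]⟩
  have hN : T ⊓ normalizer ((S ⊓ T : Subgroup G) : Set G) ≤ normalizer (AA T K L S : Set G) := fun n hn => mem_normalizer_of_cj_le (by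
    by_contra h1
    obtain ⟨s, hs1, hs2⟩ := SetLike.not_le_iff_exists.1 h1
    have h2 : cj n (AA T K L S) ≤ S ⊓ T := cj_le_iff.2 fun x hx => conj_mem_of_mem_normalizer hn.2 (AQ hx)
    have h3 := idx _ h2
    have h5 : cj n (AA T K L S) ⊓ AA T K L S ≤ K := fun d hd => iK (AQ hd.2) (gt_elem gt h.sT (AQ hd.2) fun x hx => by
      by_cases h6 : x ∈ AA T K L S
      · exact cA d hd.2 x h6
      have h7 : Commute d s := by
        have := cA _ (mem_cj.1 hd.1) _ (mem_cj.1 hs1)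
        calc d * s = n * (n⁻¹ * d * n * (n⁻¹ * s * n)) * n⁻¹ := by group
          _ = _ := by rw [this]; group
      have := h7.inv_right.mul_right (cA d hd.2 _ (hb.two s (h2 hs1) x hx hs2 h6))
      rwa [inv_mul_cancel_left] at this)
    have h6 := card_le_of_le h5
    rw [card_cj] at h3
    nlinarith)
  rcases gt_irr gt h.sT AQ (fun v hv h2 => h.K_le (iK hv h2)) hN with e | e
  · obtain ⟨u, hu, h1⟩ := h.exists_A
    exact h1 (hb.noinv u hu (e u hu))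
  · exact hσ1 (e ▸ hσ)

end CfsgLib.OTI2
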