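import Mathlib
import Cfsg.Agent.Lib.OTI2.Defs
import Cfsg.Agent.Lib.GW.KPSLb
import Cfsg.Agent.Lib.AltAut.Basic
import Cfsg.Agent.S0483

/-! Simple groups with dihedral Sylow subgroups have abelian outer automorphism groups (package OUT).  See `plans/OTI2.md`. -/

set_option autoImplicit false

namespace CfsgLib.OTI2

open Subgroup CfsgLib.Tech

universe u

theorem out_ringAut_comm {F : Type*} [Field F] [Finite F] (σ τ : F ≃+* F) : σ * τ = τ * σ := by
  obtain ⟨p, hp⟩ := CharP.exists F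
  have : Fact p.Prime := ⟨CharP.char_is_prime F p⟩
  letI := ZMod.algebra F p
  let f : (F ≃+* F) → (F ≃ₐ[ZMod p] F) := fun σ => AlgEquiv.ofRingEquiv (f := σ) fun x =>
    RingHom.congr_fun (RingHom.ext_zmod ((σ : F →+* F).comp (algebraMap (ZMod p) F)) (algebraMap (ZMod p) F)) x
  exact RingEquiv.ext (AlgEquiv.congr_fun (IsCyclic.isMulCommutative.is_comm.comm (f σ) (f τ)))

theorem out_transport {X Y : Type*} [Group X] [Group Y] (e : X ≃* Y)
    (h : ∀ α β : MulAut Y, ∃ s : Y, α * β * α⁻¹ * β⁻¹ = MulAut.conj s) (α β : MulAut X) :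
    ∃ s : X, α * β * α⁻¹ * β⁻¹ = MulAut.conj s := by
  obtain ⟨s, hs⟩ := h (MulAut.congr e α) (MulAut.congr e β)
  refine ⟨e.symm s, (MulAut.congr e).injective ?_⟩
  simp only [map_mul, map_inv]
  rw [hs]
  ext x
  simp

open scoped MatrixGroups in
theorem out_psl {F : Type*} [Field F] [Finite F] (h : Odd (Nat.card F)) (α β : MulAut PSL(2, F)) :
    ∃ s, α * β * α⁻¹ * β⁻¹ = MulAut.conj s := by
  obtain ⟨Ψ, h1, h2⟩ := GW.KP.exists_psi (F := F)
  have hi := Dickson.index_psl_odd h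
  obtain ⟨s, hs⟩ : (Ψ α * Ψ β * (Ψ α)⁻¹ * (Ψ β)⁻¹).left ∈ (Dickson.pslPGL F).range := by
    simp only [SemidirectProduct.mul_left, SemidirectProduct.inv_left, mul_mem_iff_of_index_two hi,
      GW.KP.pglAut_mem_iff, inv_mem_iff]
    tauto
  refine ⟨s, h1 ?_⟩
  rw [h2, hs, ← GW.KP.eq_inl]
  · simp only [map_mul, map_inv]
  · simp only [SemidirectProduct.mul_right, SemidirectProduct.inv_right]
    rw [out_ringAut_comm (Ψ α).right, mul_inv_cancel_right, mul_inv_cancel]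

theorem out_alt (α β : MulAut (alternatingGroup (Fin 7))) : ∃ s, α * β * α⁻¹ * β⁻¹ = MulAut.conj s := by
  have h := (AltAut.conjNormal_bijective (α := Fin 7) (by simp) (by simp)).2
  obtain ⟨a, rfl⟩ := h α
  obtain ⟨b, rfl⟩ := h β
  refine ⟨⟨a * b * a⁻¹ * b⁻¹, by
    simp [Equiv.Perm.mem_alternatingGroup, mul_comm (Equiv.Perm.sign a), mul_assoc]⟩, ?_⟩
  rw [← map_inv, ← map_inv, ← map_mul, ← map_mul, ← map_mul]
  rfl

theorem aut_comm_of_dih {X : Type u} [Group X] [Finite X] (hs : IsSimpleGroup X)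
    (hc : ¬ IsMulCommutative X) (hd : GW.DihSylow X) (α β : MulAut X) :
    ∃ s : X, α * β * α⁻¹ * β⁻¹ = MulAut.conj s := by
  rcases GW.ih_all GW.Cor.ft (Nat.card X + 1) X (Nat.lt_succ_self _) hs hc hd with ⟨F, _, _, h1, -, ⟨e⟩⟩ | ⟨⟨e⟩⟩
  · exact out_transport e (out_psl (by rwa [Nat.card_eq_fintype_card])) α β
  · exact out_transport e out_alt α β

theorem NS.outC {G : Type u} [Group G] [Finite G] {T : Subgroup G} (hs : NS T)
    (hd : GW.DihSylow T) : OutC T := by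
  intro a ha b hb
  obtain ⟨s, e⟩ := aut_comm_of_dih hs.simple hs.ncomm hd (T.normalizerMonoidHom ⟨a, ha⟩)
    (T.normalizerMonoidHom ⟨b, hb⟩)
  rw [← map_inv, ← map_inv, ← map_mul, ← map_mul, ← map_mul] at e
  exact ⟨s, s.2, fun x hx => congrArg (fun φ : MulAut T => (φ ⟨x, hx⟩ : G)) e⟩

end CfsgLib.OTI2
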