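import Mathlib
import Cfsg.Agent.Lib.OTI2.Bas2
import Cfsg.Agent.Lib.GW.Basic
import Cfsg.Agent.Lib.ZStar.Main
import Cfsg.Agent.S3224

/-! `|K| = 2`: dihedral Sylow subgroups (package Q2A).  See `plans/OTI2.md`. -/

set_option autoImplicit false

namespace CfsgLib.OTI2

open Subgroup CfsgLib.Tech

universe u

variable {G : Type u} [Group G] [Finite G] {T T' K L S : Subgroup G}

namespace Q2aAux

omit [Finite G] in
theorem exists_of_card_two {P : Subgroup G} (h : Nat.card P = 2) :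
    ∃ t ∈ P, t ≠ 1 ∧ t * t = 1 ∧ ∀ x ∈ P, x = 1 ∨ x = t := by
  obtain ⟨y, hy, huniq⟩ := (Nat.card_eq_two_iff' (1 : P)).1 h
  have hy1 : (y : G) ≠ 1 := fun e => hy (Subtype.ext e)
  have hall : ∀ x ∈ P, x = 1 ∨ x = y := by
    intro x hx
    by_cases e : x = 1
    · exact Or.inl e
    · exact Or.inr (congrArg Subtype.val (huniq ⟨x, hx⟩ (fun e' => e (congrArg Subtype.val e'))))
  refine ⟨y, y.2, hy1, ?_, hall⟩
  rcases hall _ (P.mul_mem y.2 y.2) with e | e
  · exact e
  · exact absurd (mul_eq_left.1 e) hy1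

omit [Finite G] in
theorem zpow_cases {z : G} (hz : z * z = 1) (i : ℤ) : z ^ i = 1 ∨ z ^ i = z := by
  have h2 : ∀ j : ℤ, z ^ (2 * j) = 1 := by
    intro j
    rw [zpow_mul, zpow_two, hz, one_zpow]
  rcases Int.even_or_odd' i with ⟨j, e | e⟩
  · exact Or.inl (e ▸ h2 j)
  · exact Or.inr (by rw [e, zpow_add_one, h2, one_mul])

/-- a subgroup of a quasidihedral group that contains all squares and misses a noncentral
involution has at most one involution -/
theorem qd_unique {X : Type*} [Group X] [Finite X] (hX : Cfsg.IsQuasiDihedral X) {t : X}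
    (ht2 : t * t = 1) (hC : Nat.card (centralizer ({t} : Set X)) = 4) {N : Subgroup X}
    (hsq : ∀ g, g * g ∈ N) (htN : t ∉ N) {a b : X} (ha : a ∈ N) (hb : b ∈ N)
    (ha2 : a * a = 1) (hb2 : b * b = 1) (ha1 : a ≠ 1) (hb1 : b ≠ 1) : a = b := by
  obtain ⟨n, hn, hcard, x, y, hx, hy, hyx⟩ := hX
  obtain ⟨m, rfl⟩ : ∃ m, n = m + 3 := ⟨n - 3, by omega⟩
  have e0 : m + 3 - 1 = m + 2 := by omega
  rw [e0] at hyx
  have hy2 : y * y = 1 := GW.sq_of_ord hy
  have hpos : 1 ≤ 2 ^ m := Nat.one_le_two_pow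
  have e2 : 2 ^ (m + 2) = 4 * 2 ^ m := by ring
  have e3 : orderOf x = 8 * 2 ^ m := by rw [hx]; ring
  have hidx : (zpowers x).index = 2 := by
    have h1 := (zpowers x).card_mul_index
    rw [Nat.card_zpowers, hx, hcard, pow_succ 2 (m + 3)] at h1
    exact Nat.eq_of_mul_eq_mul_left (by positivity) h1
  have hyn : y ∉ zpowers x := by
    rintro ⟨i, rfl⟩
    have h1 : x ^ i * x * (x ^ i)⁻¹ = x ^ 1 := by group
    have h2 : x ^ 1 = x ^ (2 ^ (m + 2) - 1) := h1.symm.trans hyx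
    have h3 : 1 = 2 ^ (m + 2) - 1 := pow_injOn_Iio_orderOf (x := x)
      (show 1 < orderOf x by omega) (show 2 ^ (m + 2) - 1 < orderOf x by omega) h2
    omega
  have hconj : ∀ i : ℤ, x ^ i * (y * x ^ i * y⁻¹) = x ^ (i * 2 ^ (m + 2)) := by
    intro i
    rw [← conj_zpow, hyx, ← zpow_natCast, ← zpow_mul, ← zpow_add]
    congr 1
    rw [Nat.cast_sub (Nat.one_le_two_pow)]
    push_cast
    ring
  have hord : ∀ i : ℤ, x ^ i = 1 → (2 : ℤ) ^ (m + 2) * 2 ∣ i := by
    intro i hi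
    have := orderOf_dvd_iff_zpow_eq_one.2 hi
    rw [hx] at this
    push_cast at this
    rwa [pow_succ] at this
  have key : ∀ g : X, g * g = 1 → g ∈ zpowers x ∨ ∃ i : ℤ, g = x ^ i * x ^ i * y := by
    intro g hg
    obtain ⟨i, e | e⟩ := Frob.exists_eq_zpow_or_of_index_two hidx hyn g
    · exact Or.inl ⟨i, e.symm⟩
    · refine Or.inr ?_
      have h1 : g * g = x ^ i * (y * x ^ i * y⁻¹) * (y * y) := by rw [e]; group
      rw [hg, hconj, hy2, mul_one] at h1
      have h2 := hord _ h1.symm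
      rw [mul_comm i] at h2
      obtain ⟨j, hj⟩ := Int.dvd_of_mul_dvd_mul_left (by positivity) h2
      exact ⟨j, by rw [e, hj, two_mul, zpow_add]⟩
  have htn : t ∉ zpowers x := by
    rintro ⟨i, rfl⟩
    have h1 : zpowers x ≤ centralizer ({x ^ i} : Set X) :=
      zpowers_le.2 (mem_centralizer_singleton_iff.2 (Commute.self_zpow x i))
    have h2 := card_le_of_le h1
    rw [Nat.card_zpowers] at h2
    have h3 : Nat.card (centralizer ({x ^ i} : Set X)) = 4 := hC
    omega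
  obtain ⟨j, hj⟩ := (key t ht2).resolve_left htn
  have hin : ∀ c ∈ N, c * c = 1 → c ≠ 1 → c = x ^ ((2 : ℤ) ^ (m + 2)) := by
    intro c hc hc2 hc1
    rcases key c hc2 with ⟨i, e⟩ | ⟨i, e⟩
    · have e' : x ^ i = c := e
      have h1 : x ^ (i * 2) = 1 := by rw [mul_two, zpow_add, e', hc2]
      obtain ⟨k, hk⟩ := Int.dvd_of_mul_dvd_mul_right (by norm_num) (hord _ h1)
      have hz : x ^ ((2 : ℤ) ^ (m + 2)) * x ^ ((2 : ℤ) ^ (m + 2)) = 1 := by
        rw [← zpow_add, ← mul_two, ← pow_succ]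
        refine orderOf_dvd_iff_zpow_eq_one.1 ?_
        rw [hx]; push_cast; exact dvd_rfl
      rw [hk, zpow_mul] at e'
      rcases zpow_cases hz k with e1 | e1
      · exact absurd (e'.symm.trans e1) hc1
      · exact e'.symm.trans e1
    · exfalso
      apply htN
      have : t = x ^ j * x ^ j * (x ^ i * x ^ i)⁻¹ * c := by rw [hj, e]; group
      rw [this]
      exact N.mul_mem (N.mul_mem (hsq _) (N.inv_mem (hsq _))) hc
  rw [hin a ha ha2 ha1, hin b hb hb2 hb1]

/-- a Sylow 2-subgroup of a nonabelian simple group has two commuting involutions -/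
theorem exists_two {Q : Subgroup G} (hs : NS T) (hQ : IsSylowIn 2 Q T) (h1 : Q ≠ ⊥) :
    ∃ a ∈ Q, ∃ b ∈ Q, a * a = 1 ∧ b * b = 1 ∧ a ≠ 1 ∧ b ≠ 1 ∧ b ≠ a ∧ b * a = a * b := by
  haveI : Fact (Nat.Prime 2) := ⟨Nat.prime_two⟩
  haveI : Nontrivial Q := (Subgroup.nontrivial_iff_ne_bot Q).2 h1
  haveI := hQ.pgroup.center_nontrivial
  have hZ : IsPGroup 2 (center Q) := hQ.pgroup.to_subgroup _
  have h2 : 2 ∣ Nat.card (center Q) := by
    obtain ⟨n, hn0, hn⟩ := hZ.nontrivial_iff_card.1 inferInstance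
    rw [hn]; exact dvd_pow_self 2 hn0.ne'
  obtain ⟨z, hz⟩ := exists_prime_orderOf_dvd_card' 2 h2
  have hz' : orderOf ((z : Q) : G) = 2 := by
    rw [Subgroup.orderOf_coe, Subgroup.orderOf_coe, hz]
  have hzc : ∀ b ∈ Q, b * ((z : Q) : G) = ((z : Q) : G) * b := fun b hb =>
    congrArg Subtype.val (mem_center_iff.1 z.2 ⟨b, hb⟩)
  have hzQ : ((z : Q) : G) ∈ Q := (z : Q).2
  generalize ((z : Q) : G) = a at hz' hzc hzQ
  by_contra hcon
  apply GW.ne_one_of_ord hz'
  have hcen : (⟨a, hQ.le hzQ⟩ : T) ∈ center T := by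
    refine ZStar.central_of_unique_involution ?_ hQ.toSylow (hQ.mem_toSylow.2 hzQ) ?_
    · intro N hN hodd
      haveI := hs.simple
      rcases hN.eq_bot_or_eq_top with e | e
      · exact e
      · exfalso
        rw [e, card_top] at hodd
        have h4 := hs.four_dvd
        obtain ⟨c, hc⟩ := h4
        obtain ⟨d, hd⟩ := hodd
        omega
    · intro s hsQ hs2
      by_contra hne
      have hs2' : orderOf (s : G) = 2 := by rw [Subgroup.orderOf_coe, hs2]
      exact hcon ⟨a, hzQ, s, hQ.mem_toSylow.1 hsQ, GW.sq_of_ord hz', GW.sq_of_ord hs2',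
        GW.ne_one_of_ord hz', GW.ne_one_of_ord hs2', fun e => hne (Subtype.ext e),
        hzc _ (hQ.mem_toSylow.1 hsQ)⟩
  exact hs.eq_one_of_central (hQ.le hzQ)
    (fun b hb => (congrArg Subtype.val (mem_center_iff.1 hcen ⟨b, hb⟩)).symm)

end Q2aAux

open Q2aAux in
theorem C2.dihSylow (h : C2 T T' K L S) (h2 : Nat.card K = 2) (hs : NS T) : GW.DihSylow T := by
  obtain ⟨t, ht, ht1, ht2, hallL⟩ := exists_of_card_two (h.toSy.card_eq ▸ h2 : Nat.card L = 2)
  have htK : t ∈ KK T' T := h.sL.le ht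
  have hE : K ⊔ L ≤ S := sup_le h.leK h.leL
  have hE4 : Nat.card (K ⊔ L : Subgroup G) = 4 := by rw [h.toSy.card_sup, h2]; norm_num
  have hKQ : K ≤ S ⊓ T := fun k hk => ⟨h.leK hk, (h.sK.le hk).1⟩
  obtain ⟨a, ha, b, hb, ha2, hb2, ha1, hb1, hab, hc⟩ := exists_two hs h.sT
    (fun e => h.neK (le_bot_iff.1 (e ▸ hKQ)))
  have hcent : centralizer ({(⟨t, h.leL ht⟩ : S)} : Set S) = (K ⊔ L).subgroupOf S := by
    ext s
    rw [mem_centralizer_singleton_iff, mem_subgroupOf, Subtype.ext_iff]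
    change (s : G) * t = t * s ↔ _
    constructor
    · intro e
      obtain ⟨c, hc, l, hl, e1⟩ := h.mem_S s.2
      have hlt : l * t = t * l := h.commL hl ht
      have hct : c * t = t * c := by
        rw [← e1, mul_assoc, hlt, ← mul_assoc, ← mul_assoc, mul_left_inj] at e
        exact e
      have hcK : c ∈ K := by
        by_contra hn
        exact ht1 (h.phi_inj hc hn ht hct)
      rw [← e1]
      exact mul_mem_sup hcK hl
    · intro e
      exact h.commE e (mem_sup_right ht)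
  have hC : Nat.card (centralizer ({(⟨t, h.leL ht⟩ : S)} : Set S)) = 4 := by
    rw [hcent, Nat.card_congr (subgroupOfEquivOfLe hE).toEquiv, hE4]
  have hto : orderOf (⟨t, h.leL ht⟩ : S) = 2 := by
    rw [← Subgroup.orderOf_coe]; exact GW.ord_of_sq ht2 ht1
  rcases Cfsg.Agent.S3224.result h.sS.pgroup _ hto hC with ⟨n, ⟨e⟩⟩ | hqd | h4
  · have hn : 2 ≤ n := by
      have h1 := Nat.card_congr e.toEquiv
      rw [DihedralGroup.nat_card] at h1
      have h3 := card_le_of_le hE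
      omega
    have e' : (h.sS.toSylow : Subgroup (T ⊔ L : Subgroup G)) ≃* DihedralGroup n :=
      (subgroupOfEquivOfLe h.sS.le).trans e
    obtain ⟨r, s, hd⟩ := DihSyl.exists_isDih e'
    have hD : GW.DihSylow (T ⊔ L : Subgroup G) := ⟨h.sS.toSylow, n, r, s, hn, hd⟩
    have haT : a ∈ T ⊔ L := mem_sup_left ha.2
    have hbT : b ∈ T ⊔ L := mem_sup_left hb.2
    have hD' : GW.DihSylow (T.subgroupOf (T ⊔ L)) :=
      hD.subgroup (a := ⟨a, haT⟩) (b := ⟨b, hbT⟩)
        (by rw [← Subgroup.orderOf_coe]; exact GW.ord_of_sq ha2 ha1)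
        (by rw [← Subgroup.orderOf_coe]; exact GW.ord_of_sq hb2 hb1)
        (fun e => hab (congrArg Subtype.val e))
        (mem_centralizer_singleton_iff.2 (Subtype.ext hc)) ha.2 hb.2
    refine hD'.of_surjective (f := (subgroupOfEquivOfLe (le_sup_left : T ≤ T ⊔ L)).toMonoidHom)
      (subgroupOfEquivOfLe _).surjective ?_
    rw [(MonoidHom.ker_eq_bot_iff _).2 (subgroupOfEquivOfLe _).injective, card_bot]
    exact odd_one
  · exfalso
    apply hab
    have := qd_unique hqd (t := ⟨t, h.leL ht⟩) (Subtype.ext ht2) hC (N := T.subgroupOf S) ?_ ?_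
      (a := ⟨b, hb.1⟩) (b := ⟨a, ha.1⟩) hb.2 ha.2 (Subtype.ext hb2) (Subtype.ext ha2)
      (fun e => hb1 (congrArg Subtype.val e)) (fun e => ha1 (congrArg Subtype.val e))
    · exact congrArg Subtype.val this
    · intro g
      obtain ⟨c, hc, l, hl, e1⟩ := h.mem_S g.2
      have hl2 : l * l = 1 := by rcases hallL l hl with e | e <;> simp [e, ht2]
      change (g : G) * g ∈ T
      have : (g : G) * g = c * (l * c * l⁻¹) * (l * l) := by rw [← e1]; group
      rw [this, hl2, mul_one]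
      exact T.mul_mem hc.2 (conj_mem_of_mem_normalizer (h.sL.le hl).2 hc.2)
    · intro e
      exact ht1 (h.toTP.eq_one e htK.1)
  · exfalso
    apply h.nle
    have hSE : K ⊔ L = S := eq_of_le_of_card_ge hE (by omega)
    intro c hc
    exact h.toSy.mem_of_mem_sup (hSE ▸ hc.1) hc.2

end CfsgLib.OTI2
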