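import Mathlib
import Cfsg.Agent.Lib.OTI2.Bas2
import Cfsg.Agent.Lib.Holt.BasA

/-! `|K| = 2`: the contradiction (package Q2B).  See `plans/OTI2.md`. -/

set_option autoImplicit false

namespace CfsgLib.OTI2

open Subgroup CfsgLib.Tech

universe u

variable {G : Type u} [Group G] [Finite G] {T T' K L S : Subgroup G}

namespace Q2bAux

omit [Finite G] in
theorem exists_of_card_two {P : Subgroup G} (h : Nat.card P = 2) :
    ∃ t ∈ P, t ≠ 1 ∧ t * t = 1 ∧ ∀ x ∈ P, x = 1 ∨ x = t := by
  obtain ⟨y, hy, huniq⟩ := (Nat.card_eq_two_iff' (1 : P)).1 h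
  have hy1 : (y : G) ≠ 1 := fun e => hy (Subtype.ext e)
  have hall : ∀ x ∈ P, x = 1 ∨ x = y := by
    intro x hx
    by_cases e : x = 1
    · exact Or.inl e
    · exact Or.inr (congrArg Subtype.val (huniq ⟨x, hx⟩ (fun e' => e (congrArg Subtype.val e'))))
  refine ⟨y, y.2, hy1, ?_, hall⟩
  rcases hall _ (P.mul_mem y.2 y.2) with e | e
  · exact e
  · exact absurd (mul_eq_left.1 e) hy1

theorem mem_of_comm {P H : Subgroup G} (hP : IsSylowIn 2 P H) {t : G}
    (hall : ∀ x ∈ P, x = 1 ∨ x = t) {w : G} (hw : w ∈ H) (hw2 : w * w = 1)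
    (hc : w * t = t * w) : w ∈ P := by
  refine hP.le_of_normalizes (Q := zpowers w)
    (isPGroup_zpowers_of_pow (k := 1) (by rw [pow_one, pow_two, hw2])) ((zpowers_le).2 hw)
    ((zpowers_le).2 (mem_normalizer_of_forall ?_)) (mem_zpowers w)
  intro x hx
  rcases hall x hx with e | e
  · rw [e]; simp
  · rw [e, hc, mul_inv_cancel_right]; exact e ▸ hx

omit [Finite G] in
theorem inv_pow_of_inv {t x : G} (h : t * x * t⁻¹ = x⁻¹) (n : ℕ) :
    t * x ^ n * t⁻¹ = (x ^ n)⁻¹ := by
  rw [← conj_pow, h, inv_pow]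

omit [Finite G] in
theorem inv_left {a b : G} (ha : a * a = 1) (hb : b * b = 1) :
    a * (a * b) * a⁻¹ = (a * b)⁻¹ := by
  have ha' : a⁻¹ = a := inv_eq_of_mul_eq_one_right ha
  have hb' : b⁻¹ = b := inv_eq_of_mul_eq_one_right hb
  rw [mul_inv_rev, ha', hb', ← mul_assoc, ha, one_mul]

omit [Finite G] in
theorem inv_right {a b : G} (ha : a * a = 1) (hb : b * b = 1) :
    b * (a * b) * b⁻¹ = (a * b)⁻¹ := by
  have ha' : a⁻¹ = a := inv_eq_of_mul_eq_one_right ha
  have hb' : b⁻¹ = b := inv_eq_of_mul_eq_one_right hb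
  rw [mul_inv_rev, ha', ← mul_assoc, mul_inv_cancel_right, hb']

/-- an element of even order has an involution among its powers -/
theorem odd_or_invol (x : G) :
    (∃ j, x ^ (2 * j + 1) = 1) ∨ ∃ j, x ^ j ≠ 1 ∧ x ^ j * x ^ j = 1 := by
  have hpos : 0 < orderOf x := orderOf_pos x
  rcases Nat.even_or_odd' (orderOf x) with ⟨j, e | e⟩
  · refine Or.inr ⟨j, pow_ne_one_of_lt_orderOf (by omega) (by omega), ?_⟩
    rw [← pow_add, ← two_mul, ← e, pow_orderOf_eq_one]
  · exact Or.inl ⟨j, by rw [← e, pow_orderOf_eq_one]⟩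

omit [Finite G] in
theorem comm_of_inv {t w : G} (h : t * w * t⁻¹ = w⁻¹) (hw : w * w = 1) : w * t = t * w := by
  rw [inv_eq_of_mul_eq_one_right hw, mul_inv_eq_iff_eq_mul] at h
  exact h.symm

end Q2bAux

open Q2bAux in
theorem C2.unique_invol (h : C2 T T' K L S) (h2 : Nat.card K = 2) (hs : NS T) (ho : OutC T)
    {t : G} (ht : t ∈ KK T' T) (ht2 : t * t = 1) : t ∈ L := by
  obtain ⟨t0, ht0, ht01, ht02, hall⟩ := exists_of_card_two (h.toSy.card_eq ▸ h2 : Nat.card L = 2)
  have ht0K : t0 ∈ KK T' T := h.sL.le ht0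
  by_contra hn
  have hlK : t * t0 ∈ KK T' T := (KK T' T).mul_mem ht ht0K
  have hinv := inv_right ht2 ht02
  have hnc : ¬ t * t0 = t0 * t := fun e => hn (mem_of_comm h.sL hall ht ht2 e)
  have hl2 : t * t0 * (t * t0) ≠ 1 := by
    intro e
    apply hnc
    have e1 := inv_eq_of_mul_eq_one_right e
    rw [mul_inv_rev, inv_eq_of_mul_eq_one_right ht2, inv_eq_of_mul_eq_one_right ht02] at e1
    exact e1.symm
  have hl1 : t * t0 ≠ 1 := fun e => hl2 (by rw [e, mul_one])
  generalize t * t0 = l at hlK hinv hl2 hl1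
  rcases odd_or_invol l with ⟨j, hj⟩ | ⟨j, hj1, hj2⟩
  · have hm : l ^ (j + 1) ∈ KK T' T := (KK T' T).pow_mem hlK _
    obtain ⟨s, hsT, hact⟩ := ho _ hm.2 _ ht0K.2
    have e : l ^ (j + 1) * t0 * (l ^ (j + 1))⁻¹ * t0⁻¹ = l := by
      have e1 := inv_pow_of_inv hinv (j + 1)
      have e2 : t0 * (l ^ (j + 1))⁻¹ * t0⁻¹ = l ^ (j + 1) := by
        calc t0 * (l ^ (j + 1))⁻¹ * t0⁻¹ = (t0 * l ^ (j + 1) * t0⁻¹)⁻¹ := by group
          _ = l ^ (j + 1) := by rw [e1, inv_inv]
      calc l ^ (j + 1) * t0 * (l ^ (j + 1))⁻¹ * t0⁻¹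
          = l ^ (j + 1) * (t0 * (l ^ (j + 1))⁻¹ * t0⁻¹) := by simp only [mul_assoc]
        _ = l ^ (2 * j + 1) * l := by
          rw [e2, ← pow_add, ← pow_succ]; congr 1; ring
        _ = l := by rw [hj, one_mul]
    rw [e] at hact
    have hsl : s * l = l * s := by
      have := hact s hsT
      rw [mul_inv_cancel_right, mul_inv_eq_iff_eq_mul] at this
      exact this.symm
    have hsK : s ∈ KK T T' := h.toTP.mem_KK_of_comm hlK.1 hl1 hsT hsl
    have hst : s * t0 = t0 * s := h.toTP.comm hsK ht0K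
    have hlt : l * t0 = t0 * l⁻¹ := by
      rw [← hinv]
      calc l * t0 = t0⁻¹ * (t0 * l * t0⁻¹) * (t0 * t0) := by group
        _ = t0 * (t0 * l * t0⁻¹) := by
          rw [ht02, mul_one, inv_eq_of_mul_eq_one_right ht02]
    apply h.not_sylow
    have hTK : T ≤ KK T T' := by
      intro x hx
      refine h.toTP.mem_KK_of_comm (T'.mul_mem hlK.1 hlK.1) hl2 hx ?_
      have h1 := hact x hx
      have h3 := hact _ (conj_mem_of_mem_normalizer ht0K.2 hx)
      have h4 : l * (t0 * x * t0⁻¹) * l⁻¹ = t0 * (l⁻¹ * x * l) * t0⁻¹ := by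
        calc l * (t0 * x * t0⁻¹) * l⁻¹ = (l * t0) * x * (l * t0)⁻¹ := by group
          _ = t0 * (l⁻¹ * x * l) * t0⁻¹ := by rw [hlt]; group
      have h5 : s * (t0 * x * t0⁻¹) * s⁻¹ = t0 * (s * x * s⁻¹) * t0⁻¹ := by
        calc s * (t0 * x * t0⁻¹) * s⁻¹ = (s * t0) * x * (s * t0)⁻¹ := by group
          _ = t0 * (s * x * s⁻¹) * t0⁻¹ := by rw [hst]; group
      rw [h4, h5, ← h1, mul_left_inj, mul_right_inj] at h3
      calc x * (l * l) = l * (l⁻¹ * x * l) * l := by group
        _ = l * l * x := by rw [h3]; group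
    have : KK T T' = T := le_antisymm inf_le_left hTK
    exact this ▸ h.sK
  · have hw := comm_of_inv (inv_pow_of_inv hinv j) hj2
    have hwL := mem_of_comm h.sL hall ((KK T' T).pow_mem hlK j) hj2 hw
    rcases hall _ hwL with e | e
    · exact hj1 e
    · apply hl2
      have e1 : t0 * l = l * t0 := by rw [← e, ← pow_succ, ← pow_succ']
      rw [e1, mul_inv_cancel_right] at hinv
      exact mul_eq_one_iff_eq_inv.2 hinv

open Q2bAux in
theorem C2.not_two (h : C2 T T' K L S) (h2 : Nat.card K = 2) (hs : NS T)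
    (hu : ∀ k ∈ KK T T', k * k = 1 → k ∈ K) : False := by
  obtain ⟨t, ht, ht1, ht2, hallL⟩ := exists_of_card_two (h.toSy.card_eq ▸ h2 : Nat.card L = 2)
  obtain ⟨k, hk, hk1, hk2, hallK⟩ := exists_of_card_two h2
  have htK : t ∈ KK T' T := h.sL.le ht
  have hkK : k ∈ KK T T' := h.sK.le hk
  have hti : t⁻¹ = t := inv_eq_of_mul_eq_one_right ht2
  have hC : ∀ a ∈ T, a * a = 1 → a * t = t * a → a = 1 ∨ a = k := fun a ha ha2 hc =>
    hallK a (hu a (h.toTP.mem_KK_of_comm htK.1 ht1 ha hc) ha2)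
  have hle : T ≤ centralizer ({k} : Set G) := by
    refine hs.le_of_invol ?_
    intro a ha ha2
    rw [mem_centralizer_singleton_iff]
    have hx2 : a * t * (a * t) ∈ T := by
      have : a * t * (a * t) = a * (t * a * t⁻¹) := by rw [hti]; group
      rw [this]
      exact T.mul_mem ha (conj_mem_of_mem_normalizer htK.2 ha)
    have hev : ∀ j : ℕ, (a * t) ^ (2 * j) ∈ T := by
      intro j
      rw [pow_mul, pow_two]
      exact T.pow_mem hx2 j
    rcases odd_or_invol (a * t) with ⟨j, hj⟩ | ⟨j, hj1, hj2⟩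
    · exfalso
      apply ht1
      refine h.toTP.eq_one ?_ htK.1
      rw [pow_succ] at hj
      have : t = a⁻¹ * ((a * t) ^ (2 * j))⁻¹ := by
        rw [inv_eq_of_mul_eq_one_right hj]; group
      rw [this]
      exact T.mul_mem (T.inv_mem ha) (T.inv_mem (hev j))
    · have hwa := comm_of_inv (inv_pow_of_inv (inv_left ha2 ht2) j) hj2
      have hwt := comm_of_inv (inv_pow_of_inv (inv_right ha2 ht2) j) hj2
      have hpar : (a * t) ^ j ∈ T ∨ (a * t) ^ j * t ∈ T := by
        rcases Nat.even_or_odd' j with ⟨i, e | e⟩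
        · exact Or.inl (e ▸ hev i)
        · refine Or.inr ?_
          rw [e, pow_succ, mul_assoc, mul_assoc, ht2, mul_one]
          exact T.mul_mem (hev i) ha
      generalize (a * t) ^ j = w at hj1 hj2 hwa hwt hpar
      rcases hpar with hw | hw
      · rcases hC w hw hj2 hwt with e | e
        · exact absurd e hj1
        · rw [← e, hwa]
      · have hb2 : w * t * (w * t) = 1 := by
          calc w * t * (w * t) = w * (t * w) * t := by simp only [mul_assoc]
            _ = (w * w) * (t * t) := by rw [← hwt]; simp only [mul_assoc]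
            _ = 1 := by rw [hj2, ht2, mul_one]
        rcases hC _ hw hb2 (by rw [mul_assoc, ← mul_assoc t, ← hwt, mul_assoc]) with e | e
        · have e1 : w = t := by rw [eq_inv_of_mul_eq_one_left e, hti]
          rcases hC a ha ha2 (by rw [← e1, hwa]) with e2 | e2
          · rw [e2, one_mul, mul_one]
          · rw [e2]
        · obtain ⟨u, huA, huK⟩ := h.exists_A
          obtain ⟨l, hl, hφ⟩ := h.phi_surj huA huK hk
          have hlt : l = t := by
            rcases hallL l hl with e1 | e1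
            · rw [e1] at hφ
              exact absurd (by rw [← hφ]; group) hk1
            · exact e1
          rw [hlt, ← e, hti, mul_left_inj] at hφ
          have huT : u ∈ T := huA.1.2
          have huk : u * k = k * u :=
            h.central (fun x hx => by rcases hallK x hx with e1 | e1 <;> simp [e1, hk2]) huA hk
          have hb : u⁻¹ * a * u ∈ T := T.mul_mem (T.mul_mem (T.inv_mem huT) ha) huT
          rcases hC _ hb (by
              calc u⁻¹ * a * u * (u⁻¹ * a * u) = u⁻¹ * (a * a) * u := by group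
                _ = 1 := by rw [ha2]; group) (by
              calc u⁻¹ * a * u * t = u⁻¹ * (a * (u * t * u⁻¹)) * u := by group
                _ = u⁻¹ * ((u * t * u⁻¹) * a) * u := by rw [hφ, hwa]
                _ = t * (u⁻¹ * a * u) := by group) with e2 | e2
          · have : a = 1 := by
              calc a = u * (u⁻¹ * a * u) * u⁻¹ := by group
                _ = 1 := by rw [e2]; group
            rw [this, one_mul, mul_one]
          · have : a = k := by
              calc a = u * (u⁻¹ * a * u) * u⁻¹ := by group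
                _ = k := by rw [e2, huk]; group
            rw [this]
  exact hk1 (hs.eq_one_of_central hkK.1
    (fun a ha => (mem_centralizer_singleton_iff.1 (hle ha)).symm))

end CfsgLib.OTI2
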