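import Mathlib
import Cfsg.Agent.Lib.OTI2.Bas2
import Cfsg.Agent.Lib.Gold.Tools

/-! The case where `K` is not elementary (package SC1).  See `plans/OTI2.md`. -/

set_option autoImplicit false

namespace CfsgLib.OTI2

open Subgroup CfsgLib.Tech CfsgLib.Gold

universe u

variable {G : Type u} [Group G] [Finite G] {T T' K L S : Subgroup G}

theorem C2.sc_not_elem (h : C2 T T' K L S) (hS : S ≤ normalizer ((K ⊔ L : Subgroup G) : Set G))
    (he : ∃ k ∈ K, k * k ≠ 1) :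
    ∃ B : Subgroup G, SC B T ∧ B ≠ ⊥ ∧ ∀ a ∈ B, ∀ b ∈ B, a * b = b * a := by
  have eA := h.AA_eq hS
  have KA : K ≤ S ⊓ T := eA ▸ h.K_le
  have K2 := h.sK.pgroup
  obtain ⟨s, hs, sK⟩ := h.exists_A
  have mul : ∀ u ∈ S ⊓ T, ∀ v ∈ S ⊓ T, u ∉ K → v ∉ K → u * v ∈ K := fun u hu v hv =>
    h.mul_mem_of_not_elem he (eA.ge hu) (eA.ge hv)
  have sq : ∀ v ∈ S ⊓ T, v ∉ K → v * v = s * s := fun v hv vK => by
    have := h.inv (inv_mem hs) (fun e => sK (inv_mem_iff.1 e))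
      (mul _ (inv_mem (eA.le hs)) v hv (fun e => sK (inv_mem_iff.1 e)) vK)
    calc v * v = s * s * (s⁻¹ * (s⁻¹ * v) * s⁻¹⁻¹) * (s⁻¹ * v) := by group
      _ = _ := by rw [this, inv_mul_cancel_right]
  let Ω : Subgroup G :=
    { carrier := {k | k ∈ K ∧ k * k = 1}
      one_mem' := ⟨one_mem _, one_mul _⟩
      mul_mem' := fun {a b} ha hb => ⟨mul_mem ha.1 hb.1, by
        rw [Commute.mul_mul_mul_comm (h.commK hb.1 ha.1), ha.2, hb.2, one_mul]⟩
      inv_mem' := fun {a} ha => ⟨inv_mem ha.1, by rw [← mul_inv_rev, ha.2, inv_one]⟩ }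
  obtain ⟨k₁, hk₁, k2, k4⟩ : ∃ k ∈ K, k * k ≠ 1 ∧ k * k * (k * k) = 1 := by
    obtain ⟨k, hk, h1⟩ := he
    obtain ⟨n, hn⟩ := isPGroup_iff_mem.1 K2 k hk
    induction n generalizing k with
    | zero => exact absurd (by rw [show k = 1 by simpa using hn, one_mul]) h1
    | succ n ih =>
      by_cases c : k * k * (k * k) = 1
      · exact ⟨k, hk, h1, c⟩
      · exact ih _ (mul_mem hk hk) c (by rw [← pow_two, ← pow_mul, ← pow_succ', hn])
  have cs : ∀ {a : G} (g : G), a * a = 1 → g * a * g⁻¹ * (g * a * g⁻¹) = 1 := fun g e => by rw [conj_mul, e]; simp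
  by_cases s2 : s * s = 1
  swap
  · refine ⟨Ω, sc_of_isSylowIn h.sT (fun a ha => KA ha.1) fun a ha g _ m => ⟨by_contra fun c => s2 ?_, cs g ha.2⟩,
      fun e => k2 (mem_bot.1 (e ▸ ⟨mul_mem hk₁ hk₁, k4⟩ : k₁ * k₁ ∈ ⊥)), fun a ha b hb => h.commK ha.1 hb.1⟩
    rw [← sq _ m c, cs g ha.2]
  let Z : Subgroup G :=
    { carrier := {z | ∃ k ∈ K, k * k * (k * k) = 1 ∧ k * k = z}
      one_mem' := ⟨1, one_mem _, by simp⟩
      mul_mem' := by
        rintro _ _ ⟨a, ha, a4, rfl⟩ ⟨b, hb, b4, rfl⟩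
        have e := Commute.mul_mul_mul_comm (h.commK hb ha) a b
        exact ⟨a * b, mul_mem ha hb, by
          rw [e, Commute.mul_mul_mul_comm (h.commK (mul_mem hb hb) (mul_mem ha ha)), a4, b4, one_mul], e⟩
      inv_mem' := by
        rintro _ ⟨a, ha, a4, rfl⟩
        exact ⟨a⁻¹, inv_mem ha, by rw [← mul_inv_rev, ← mul_inv_rev, a4, inv_one], (mul_inv_rev a a).symm⟩ }
  have ZΩ : Z ≤ Ω := by
    rintro _ ⟨a, ha, a4, rfl⟩
    exact ⟨mul_mem ha ha, a4⟩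
  have cA : ∀ z ∈ Ω, ∀ a ∈ S ⊓ T, a * z = z * a := fun z hz a ha => by
    by_cases c : a ∈ K
    · exact h.commK c hz.1
    · rw [← mul_inv_eq_iff_eq_mul, h.inv (eA.ge ha) c hz.1, inv_eq_of_mul_eq_one_right hz.2]
  have cS : ∀ z ∈ Ω, S ≤ centralizer {z} := fun z hz x hx => by
    obtain ⟨a, ha, l, hl, rfl⟩ := h.mem_S hx
    exact mem_centralizer_singleton_iff.2 (Commute.mul_left (cA z hz a ha) (h.toSy.comm hz.1 hl).symm)
  refine ⟨Z, sc_of_isSylowIn h.sT (fun a ha => KA (ZΩ ha).1) ?_,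
    fun e => k2 (mem_bot.1 (e ▸ ⟨k₁, hk₁, k4, rfl⟩ : k₁ * k₁ ∈ ⊥)), fun a ha b hb => h.commK (ZΩ ha).1 (ZΩ hb).1⟩
  rintro z hz g hg hf
  have zΩ := ZΩ hz
  obtain ⟨k, hk, k4, ez⟩ := hz
  obtain ⟨c, hc, e⟩ := (h.sS.of_le (K := (T ⊔ L) ⊓ centralizer {z}) (le_inf h.sS.le (cS z zΩ)) inf_le_left).exists_cj_le
    (isPGroup_cj g⁻¹ (h.sS.pgroup.to_inf_left (K := centralizer {g * z * g⁻¹}))) (cj_le_iff.2 fun x hx =>
      ⟨conj_mem_of_mem_normalizer (Subgroup.le_normalizer (inv_mem (mem_sup_left hg))) (h.sS.le hx.1),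
        mem_centralizer_singleton_iff.2 (by
          have := ((Commute.conj_iff g⁻¹).2 (mem_centralizer_singleton_iff.1 hx.2)).eq
          rwa [show g⁻¹ * (g * z * g⁻¹) * g⁻¹⁻¹ = z by group] at this)⟩)
  rw [← cj_mul] at e
  have mT := h.le_normalizer (mul_mem hc.1 (inv_mem (mem_sup_left hg)))
  have ef : g * z * g⁻¹ = (c * g⁻¹)⁻¹ * z * (c * g⁻¹) := by
    rw [show (c * g⁻¹)⁻¹ * z * (c * g⁻¹) = g * (c⁻¹ * (z * c)) * g⁻¹ by group, ← mem_centralizer_singleton_iff.1 hc.2,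
      inv_mul_cancel_left]
  have f2 := cs g zΩ.2
  generalize c * g⁻¹ = m at e mT ef
  generalize g * z * g⁻¹ = f at e ef hf f2
  by_cases fK : f ∈ K
  · rw [inf_eq_left.2 (cS f ⟨fK, f2⟩)] at e
    have m1 : m⁻¹ * k * m ∈ S ⊓ T := ⟨conj_mem_of_mem_normalizer' (mem_normalizer_of_cj_le e) (KA hk).1,
      conj_mem_of_mem_normalizer' mT (KA hk).2⟩
    have e1 : m⁻¹ * k * m * (m⁻¹ * k * m) = f := by rw [ef, ← ez]; group
    by_cases c : m⁻¹ * k * m ∈ K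
    · exact ⟨_, c, by rw [e1, f2], e1⟩
    · rw [← e1, sq _ m1 c, s2]
      exact one_mem _
  exfalso
  have fA := eA.ge hf
  obtain ⟨l, hl, el⟩ := h.phi_surj fA fK (mul_mem hk hk)
  have l2 : l * l = 1 := h.phi_inj hf fK (mul_mem hl hl) (by
    have := h.phi_mul fA hl hl
    rwa [el, k4, mul_inv_eq_one, mul_inv_eq_iff_eq_mul] at this)
  set D := (K ⊔ L) ⊓ centralizer {f} with hD
  have ES : K ⊔ L ≤ S := sup_le h.leK h.leL
  have D'S : cj m D ≤ S := (cj_mono m (inf_le_inf_right _ ES)).trans e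
  have d0 : k * l ∈ D := ⟨mul_mem (mem_sup_left hk) (mem_sup_right hl), mem_centralizer_singleton_iff.2 (by
    calc k * l * f = k⁻¹ * (k * k) * l * f := by group
      _ = _ := by rw [← h.inv fA fK hk, ← el]; group)⟩
  have d2 : k * l * (k * l) = z := by rw [Commute.mul_mul_mul_comm (h.toSy.comm hk hl).symm, l2, mul_one, ez]
  have ΩD : Ω ≤ D := fun a ha => ⟨mem_sup_left ha.1, mem_centralizer_singleton_iff.2 (cA a ha f hf).symm⟩
  have zD : z ∉ cj m D := fun e => fK (h.toSy.mem_of_mem_sup (ef ▸ (mem_cj.1 e).1) hf.2)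
  by_cases DE : cj m D ≤ K ⊔ L
  · refine fK (ef ▸ (conj_mem_of_mem_normalizer' (mem_normalizer_of_forall (H := Ω) fun a ha => ⟨?_, cs m ha.2⟩) zΩ).1)
    exact h.toSy.mem_of_mem_sup (DE (conj_mem_cj.2 (ΩD ha))) (conj_mem_of_mem_normalizer mT (KA ha.1).2)
  obtain ⟨d, hd, dE⟩ := SetLike.not_le_iff_exists.1 DE
  have dec : ∀ x ∈ S, x ∉ K ⊔ L → x * f ∈ K ⊔ L := fun x hx xE => by
    obtain ⟨a, ha, l, hl, rfl⟩ := h.mem_S hx
    rw [show a * l * f = a * f * (f⁻¹ * l * f) by group]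
    exact mul_mem (mem_sup_left (mul a ha f hf (fun e => xE (mul_mem (mem_sup_left e) (mem_sup_right hl))) fK))
      (conj_mem_of_mem_normalizer' (hS hf.1) (mem_sup_right hl))
  have WD : cj m D ⊓ (K ⊔ L) ≤ D := fun w hw => ⟨hw.2, mem_centralizer_singleton_iff.2 (by
    have c1 : Commute w d := by
      simpa [mul_assoc] using (Commute.conj_iff m).2 (h.commE (mem_cj.1 hw.1).1 (mem_cj.1 hd).1)
    simpa using (c1.inv_right.mul_right (h.commE hw.2 (dec d (D'S hd) dE))).eq)⟩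
  have i1 : (cj m D ⊓ (K ⊔ L)).relIndex (cj m D) = 2 := relIndex_eq_two_iff_exists_notMem_and.2
    ⟨d, hd, fun e => dE e.2, fun b hb => or_iff_not_imp_right.2 fun c => ⟨mul_mem hb hd, by
      rw [show b * d = b * f * (f⁻¹ * (d * f) * f) * (f * f)⁻¹ by group, f2, inv_one, mul_one]
      exact mul_mem (dec b (D'S hb) fun e => c ⟨hb, e⟩)
        (conj_mem_of_mem_normalizer' (hS hf.1) (dec d (D'S hd) dE))⟩⟩
  have c1 := card_mul_relIndex' (inf_le_left : cj m D ⊓ (K ⊔ L) ≤ _)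
  rw [i1, card_cj, ← card_mul_relIndex' WD] at c1
  exact zD (d2 ▸ (mul_self_mem_of_index_two (Nat.eq_of_mul_eq_mul_left Nat.card_pos c1).symm (⟨_, d0⟩ : D)).1)

end CfsgLib.OTI2
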