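import Mathlib
import Cfsg.Agent.Lib.OTI2.CI
import Cfsg.Agent.Lib.OTI2.SC1
import Cfsg.Agent.Lib.OTI2.GK
import Cfsg.Agent.Lib.OTI2.Gam0
import Cfsg.Agent.Lib.OTI2.Gam1
import Cfsg.Agent.Lib.OTI2.Q2a
import Cfsg.Agent.Lib.OTI2.Q2b
import Cfsg.Agent.Lib.OTI2.Out

/-! Simple TI-subgroups (package TS).  See `plans/OTI2.md`. -/

set_option autoImplicit false

namespace CfsgLib.OTI2

open Subgroup CfsgLib.Tech CfsgLib.Gold

universe u

variable {G : Type u} [Group G] [Finite G] {T T' K L S : Subgroup G}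

theorem C2.not_le_normalizer (h : C2 T T' K L S) (hs : NS T) (h4 : 4 ≤ Nat.card K) :
    ¬ S ≤ normalizer ((K ⊔ L : Subgroup G) : Set G) := fun hS => by
  obtain ⟨B, h1, h2, h3⟩ : ∃ B : Subgroup G, SC B T ∧ B ≠ ⊥ ∧ ∀ a ∈ B, ∀ b ∈ B, a * b = b * a := by
    by_cases he : ∀ k ∈ K, k * k = 1
    · exact h.sc_elem hS he
    · exact h.sc_not_elem hS (by simpa using he)
  exact h.not_gt hS h4 hs (gt_of_sc hs h1 h2 h3)

theorem C2.false (h : C2 T T' K L S) (hs : NS T) : False := by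
  obtain ⟨S', h'⟩ := h.exists_symm
  have hs' := hs.of_tp h.toTP
  have hc := h.toSy.card_eq
  obtain ⟨n, hn⟩ := h.sK.pgroup.exists_card_eq
  rcases n with - | - | n
  · exact h.neK (card_eq_one.1 hn)
  · have h2 : Nat.card K = 2 := hn
    exact h.not_two h2 hs fun k hk hk2 =>
      h'.unique_invol (hc ▸ h2) hs' (hs'.outC (h'.dihSylow (hc ▸ h2) hs')) hk hk2
  have h4 : 4 ≤ Nat.card K := by
    rw [hn, pow_add, pow_add]
    have := Nat.one_le_two_pow (n := n)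
    omega
  have hS := h.not_le_normalizer hs h4
  have hb := h.big h4 hS
  have hb' := h'.big (hc ▸ h4) (h'.not_le_normalizer hs' (hc ▸ h4))
  refine h.not_big hb h4 hS (fun k hk => h.exists_sq hb (fun k hk h1 l hl => ?_) hk) hs
  obtain ⟨v, hv, e⟩ := hb'.full k hk h1 l hl
  exact ⟨v, sup_comm K L ▸ hv.2, e⟩

theorem Sy.sylow (h : Sy T T' K L) (hs : NS T) : IsSylowIn 2 K T := by
  by_contra hK
  obtain ⟨S, h'⟩ := h.exists_c2 hK
  exact h'.false hs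

theorem TP.ts (h : TP T T') (hs : NS T) (hev : ∃ k ∈ KK T T', orderOf k = 2)
    (hK : ¬ T ≤ KK T T') :
    ∃ Q, IsSylowIn 2 Q T ∧ Q ≤ KK T T' ∧ ∀ a ∈ Q, ∀ b ∈ Q, a * b = b * a := by
  obtain ⟨K, L, h'⟩ := h.exists_sy hev
  exact ⟨K, h'.sylow hs, h'.sK.le, fun a ha b hb => h'.comm_of_sylow hs.noO hK (h'.sylow hs) ha hb⟩

theorem Sy.gt (h : Sy T T' K L) (hs : NS T) (hK : ¬ T ≤ KK T T') : GT T :=
  gt_of_comm hs (h.sylow hs) fun _ ha _ hb => h.comm_of_sylow hs.noO hK (h.sylow hs) ha hb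

theorem Sy.elem (h : Sy T T' K L) (hs : NS T) (hK : ¬ T ≤ KK T T') {k : G} (hk : k ∈ K) :
    k * k = 1 :=
  gt_elem (h.gt hs hK) (h.sylow hs) hk fun _ hb => h.comm_of_sylow hs.noO hK (h.sylow hs) hk hb

theorem Sy.inner' (h : Sy T T' K L) (hs : NS T) (hK : ¬ T ≤ KK T T') {l : G} (hl : l ∈ KK T' T)
    {n : ℕ} (hn : l ^ 2 ^ n = 1) : ∃ s ∈ K, ∀ a ∈ T, l * a * l⁻¹ = s * a * s⁻¹ := by
  refine gt_inner (h.gt hs hK) (h.sylow hs) hl.2 hn (fun s hs' => ?_)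
    fun v hv _ => (h.toTP.comm (h.sK.le hv) hl).symm
  rw [← h.toTP.comm (h.sK.le hs') hl]
  simp

theorem Sy.inner (h : Sy T T' K L) (hs : NS T) (hK : ¬ T ≤ KK T T') {l : G} (hl : l ∈ L) :
    ∃ s ∈ K, ∀ a ∈ T, l * a * l⁻¹ = s * a * s⁻¹ := by
  obtain ⟨n, hn⟩ := isPGroup_iff_mem.1 h.sL.pgroup l hl
  exact h.inner' hs hK (h.sL.le hl) hn

theorem TP.eq_one_of_cent (h : TP T T') (hK : ¬ T ≤ KK T T') {l : G} (hl : l ∈ T')
    (hc : ∀ a ∈ T, l * a * l⁻¹ = a) : l = 1 := by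
  by_contra h1
  exact hK fun a ha => h.mem_KK_of_comm hl h1 ha (by rw [← mul_inv_eq_iff_eq_mul.1 (hc a ha)])

theorem Sy.central (h : Sy T T' K L) (hs : NS T) (hK : ¬ T ≤ KK T T') {s a : G} (hk : s ∈ K)
    (ha : a ∈ KK T T') : s * a = a * s := by
  choose f hf he using fun l : L => h.inner hs hK l.2
  have hi : Function.Injective fun l : L => (⟨f l, hf l⟩ : K) := fun l m e => by
    have e' : f l = f m := congrArg Subtype.val e
    refine Subtype.ext (inv_mul_eq_one.1 (h.toTP.eq_one_of_cent hK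
      (h.sL.le (mul_mem (inv_mem m.2) l.2)).1 fun a ha => ?_)).symm
    calc (m : G)⁻¹ * l * a * ((m : G)⁻¹ * l)⁻¹ = (m : G)⁻¹ * (l * a * (l : G)⁻¹) * m := by group
      _ = a := by rw [he l a ha, e', ← he m a ha]; group
  obtain ⟨l, e⟩ := (hi.bijective_of_nat_card_le h.card_eq.le).2 ⟨s, hk⟩
  have e' : f l = s := congrArg Subtype.val e
  have := he l a ha.1
  rw [e', ← h.toTP.comm ha (h.sL.le l.2), mul_inv_cancel_right] at this
  exact (eq_mul_inv_iff_mul_eq.1 this).symm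

theorem TP.exists_sy_mem (h : TP T T') {k : G} (hk : k ∈ KK T T') (h2 : orderOf k = 2) :
    ∃ K L, Sy T T' K L ∧ k ∈ K := by
  obtain ⟨K, hK, hkK⟩ := exists_isSylowIn_ge (p := 2) (Q := zpowers k)
    (isPGroup_zpowers_iff.2 ⟨1, h2⟩) ((zpowers_le).2 hk)
  obtain ⟨L, hL⟩ := exists_isSylowIn 2 (KK T' T)
  refine ⟨K, L, ⟨h, hK, hL, fun e => ?_⟩, hkK (mem_zpowers k)⟩
  have : k = 1 := by simpa [e] using hkK (mem_zpowers k)
  simp [this] at h2

theorem TP.not_le_symm (h : TP T T') (hs : NS T) (hK : ¬ T ≤ KK T T') : ¬ T' ≤ KK T' T := by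
  intro hL
  have hs' := hs.of_tp h
  obtain ⟨t, ht⟩ := exists_prime_orderOf_dvd_card' (G := T') 2 (Dvd.dvd.trans ⟨2, rfl⟩ hs'.four_dvd)
  obtain ⟨L, K, h'⟩ := h.symm.exists_sy ⟨t, hL t.2, by rw [orderOf_coe, ht]⟩
  have hy := h'.symm
  let H : Subgroup G :=
    { carrier := {l | l ∈ normalizer (T : Set G) ∧ ∃ s ∈ K, ∀ a ∈ T, l * a * l⁻¹ = s * a * s⁻¹}
      one_mem' := ⟨one_mem _, 1, one_mem _, fun _ _ => rfl⟩
      mul_mem' := by
        rintro l m ⟨hl, s, hs, e⟩ ⟨hm, r, hr, e'⟩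
        refine ⟨mul_mem hl hm, s * r, mul_mem hs hr, fun a ha => ?_⟩
        have := e _ (conj_mem_of_mem_normalizer hm ha)
        calc l * m * a * (l * m)⁻¹ = l * (m * a * m⁻¹) * l⁻¹ := by group
          _ = s * r * a * (s * r)⁻¹ := by rw [this, e' a ha]; group
      inv_mem' := by
        rintro l ⟨hl, s, hs, e⟩
        refine ⟨inv_mem hl, s⁻¹, inv_mem hs, fun a ha => ?_⟩
        have := e _ (conj_mem_of_mem_normalizer' hl ha)
        calc l⁻¹ * a * l⁻¹⁻¹ = s⁻¹ * (s * (l⁻¹ * a * l) * s⁻¹) * s := by group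
          _ = s⁻¹ * a * s⁻¹⁻¹ := by rw [← this]; group }
  have hH : T' ≤ H := hs'.le_of_invol fun a ha h2 =>
    ⟨(hL ha).2, hy.inner' hs hK (hL ha) (n := 1) (by rw [pow_one, sq, h2])⟩
  refine hs'.ncomm ⟨⟨fun l m => Subtype.ext ?_⟩⟩
  have sq : ∀ x ∈ T', x * x = 1 := fun x hx => by
    obtain ⟨-, s, hs1, e⟩ := hH hx
    refine h.eq_one_of_cent hK (mul_mem hx hx) fun a ha => ?_
    calc x * x * a * (x * x)⁻¹ = x * (x * a * x⁻¹) * x⁻¹ := by group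
      _ = s * s * a * (s * s)⁻¹ := by
        rw [e a ha, e _ (conj_mem_of_mem_normalizer (le_normalizer (hy.sK.le hs1).1) ha)]; group
      _ = a := by rw [hy.elem hs hK hs1]; group
  exact mul_comm_of_elem sq l.2 m.2

end CfsgLib.OTI2
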