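import Mathlib
import Cfsg.Agent.Lib.OTI2.CI
import Cfsg.Agent.Lib.OTI2.GTW
import Cfsg.Agent.Lib.ACT.Bas

/-! A semisimple TI-subgroup is simple (package SIM).  See `plans/OTI2.md`. -/

set_option autoImplicit false

namespace CfsgLib.OTI2

open Subgroup CfsgLib.Tech CfsgLib.Gold

universe u

variable {G : Type u} [Group G] [Finite G] {T T' K L C : Subgroup G}

theorem sim_fix (h : TP T T') (hC : Fac T C) {X : Subgroup G} (hX : IsPGroup 2 X) (hn : X ≤ normalizer (C : Set G))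
    {l : G} (hl : l ∈ X) (hl' : l ∈ T') (l1 : l ≠ 1) : ∃ a ∈ C, a ≠ 1 ∧ a * a = 1 ∧ a ∈ KK T T' := by
  obtain ⟨a, ha, oa, ca⟩ := ACT.exists_inv_fixed hX hn fun k =>
    (ACT.noInv_iff.1 k).not_two_dvd_nat ((by decide : 2 ∣ 4).trans hC.toNS.four_dvd)
  exact ⟨a, ha, ACT.ne_one_of_ord oa, ACT.sq_of_ord oa, h.mem_KK_of_comm hl' l1 (hC.le ha) (ca l hl).symm⟩

theorem Sy.le_normalizer_fac (h : Sy T T' K L) (hC : Fac T C) : L ≤ normalizer (C : Set G) := by
  have fc : ∀ l ∈ L, Fac T (cj l C) := fun l hl => by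
    have := hC.cj l
    rwa [mem_normalizer_iff_cj.1 (h.sL.le hl).2] at this
  by_contra hn
  have no : ∀ l ∈ L, cj l C = C → l = 1 := fun l hl e => by
    by_contra l1
    obtain ⟨a, ha, a1, -, k⟩ := sim_fix h.toTP hC (isPGroup_zpowers_of_mem h.sL.pgroup hl)
      (zpowers_le.2 (mem_normalizer_iff_cj.2 e)) (mem_zpowers l) (h.sL.le hl).1 l1
    refine hn fun m hm => mem_normalizer_iff_cj.2 (by_contra fun c => a1 ((fc m hm).eq_one hC c ?_ ha))
    rwa [mem_cj, mul_assoc, h.toTP.comm k (h.sL.le hm), inv_mul_cancel_left]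
  obtain ⟨t, ht, t1⟩ := (bot_or_exists_ne_one L).resolve_left h.symm.neK
  obtain ⟨n, ot⟩ := (ACT.two_of_mem h.sL.pgroup ht).exists_inv t1
  have ht := pow_mem ht n
  generalize t ^ n = t at ot ht
  have t2 := ACT.sq_of_ord ot
  have ne : cj t C ≠ C := fun e => ACT.ne_one_of_ord ot (no t ht e)
  have cm : ∀ a ∈ C, ∀ b ∈ C, Commute a (t * b * t⁻¹) := fun a ha b hb =>
    hC.comm (fc t ht) ne.symm ha (conj_mem_cj.2 hb)
  have dK : ∀ a ∈ C, a * (t * a * t⁻¹) ∈ KK T T' := fun a ha =>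
    h.toTP.mem_KK_of_comm (h.sL.le ht).1 (ACT.ne_one_of_ord ot) (mul_mem (hC.le ha) ((fc t ht).le (conj_mem_cj.2 ha))) (by
      conv_rhs => rw [(cm a ha a ha).eq]
      rw [inv_eq_of_mul_eq_one_right t2]
      calc _ = a * t * a * (t * t) := by group
        _ = t * t * a * t * a := by rw [t2]; group
        _ = _ := by group)
  let φ : C →* KK T T' := MonoidHom.mk' (fun a => ⟨_, dK a a.2⟩) fun a b => Subtype.ext (by
    show (a : G) * b * (t * (a * b) * t⁻¹) = a * (t * a * t⁻¹) * (b * (t * b * t⁻¹))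
    rw [← conj_mul, (cm b b.2 a a.2).mul_mul_mul_comm])
  have inj : Function.Injective φ := (injective_iff_map_eq_one φ).2 fun a e => Subtype.ext
    (hC.eq_one (fc t ht) ne.symm a.2 (eq_inv_of_mul_eq_one_left (congrArg Subtype.val e) ▸
      inv_mem (conj_mem_cj.2 a.2)))
  have h4 : 2 ^ 2 ∣ Nat.card L := by
    rw [← h.card_eq, h.sK.card_eq_pow]
    exact pow_dvd_pow 2 ((Nat.prime_two.pow_dvd_iff_le_factorization Nat.card_pos.ne').1
      (hC.toNS.four_dvd.trans (card_dvd_of_injective φ inj)))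
  obtain ⟨l, hl, l1, lt⟩ : ∃ l ∈ L, l ≠ 1 ∧ t⁻¹ * l ≠ 1 := by
    by_contra c
    push Not at c
    have := (Set.ncard_le_ncard (s := (L : Set G)) (t := {1, t}) fun l hl => or_iff_not_imp_left.2 fun e =>
      (inv_mul_eq_one.1 (c l hl e)).symm).trans (Set.ncard_insert_le 1 {t})
    rw [Set.ncard_singleton] at this
    exact absurd ((Nat.le_of_dvd Nat.card_pos h4).trans this) (by decide)
  have n1 : cj l C ≠ C := fun e => l1 (no l hl e)
  have n2 : cj l C ≠ cj t C := fun e => lt (no _ (mul_mem (inv_mem ht) hl) (by rw [cj_mul, e, cj_inv_cj]))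
  refine hC.ncomm ⟨⟨fun ⟨b, hb⟩ ⟨a, ha⟩ => Subtype.ext ?_⟩⟩
  have c1 := Commute.mul_right ((fc l hl).comm hC n1 (conj_mem_cj.2 hb) ha)
    ((fc l hl).comm (fc t ht) n2 (conj_mem_cj.2 hb) (conj_mem_cj.2 ha))
  rw [← mul_inv_cancel_right (a * _) l, h.toTP.comm (dK a ha) (h.sL.le hl), Commute.conj_iff] at c1
  have := c1.mul_right (cm b hb a ha).inv_right
  rwa [mul_inv_cancel_right] at this

theorem Sy.ns (h : Sy T T' K L) (hs : Semi T) (hK : ¬ T ≤ KK T T') (hL : ¬ T' ≤ KK T' T) :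
    NS T := by
  obtain ⟨C, hC, CK⟩ : ∃ C, Fac T C ∧ ¬ C ≤ KK T T' := by
    by_contra c
    push Not at c
    exact hK (hs _ c)
  by_cases e : T ≤ C
  · exact le_antisymm hC.le e ▸ hC.toNS
  exfalso
  obtain ⟨C', hC', ne⟩ : ∃ C', Fac T C' ∧ ¬ C' ≤ C := by
    by_contra c
    push Not at c
    exact e (hs _ c)
  obtain ⟨D, hD, DK⟩ : ∃ D, Fac T' D ∧ ¬ D ≤ KK T' T := by
    by_contra c
    push Not at c
    obtain ⟨g, rfl⟩ := h.conj
    exact hL (hs.cj g _ c)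
  obtain ⟨l, hl, l1⟩ := (bot_or_exists_ne_one L).resolve_left h.symm.neK
  obtain ⟨a, ha, a1, a2, aK⟩ := sim_fix h.toTP hC' h.sL.pgroup (h.le_normalizer_fac hC') hl (h.sL.le hl).1 l1
  obtain ⟨Q, hQ⟩ := exists_isSylowIn 2 (C ⊓ KK T T')
  have QC := hQ.le.trans inf_le_left
  have QK := hQ.le.trans inf_le_right
  have ne' : C ≠ C' := fun e => ne e.ge
  have big : ¬ Nat.card L ≤ Nat.card Q := fun c => a1 (hC.eq_one hC' ne' (QC ((eq_of_le_of_card_ge le_sup_left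
    ((h.sK.card_le (ACT.two_sup hQ.pgroup (ACT.two_of_sq a2).zpowers (zpowers_le.2 (centralizer_le_normalizer _
      fun x hx => hC.comm hC' ne' (QC hx) ha))) (sup_le QK (zpowers_le.2 aK))).trans (h.card_eq ▸ c))).ge
        (mem_sup_right (mem_zpowers a)))) ha)
  have nC := h.le_normalizer_fac hC
  have sQ := (h.toTP.sylow_or_card_le h.sL.le h.sL.pgroup hC.le nC hQ).resolve_right big
  obtain ⟨K₁, s₁, k₁⟩ := exists_isSylowIn_ge hQ.pgroup QK
  have h₁ : Sy T T' K₁ L := ⟨h.toTP, s₁, h.sL, fun e => h.neK (card_eq_one.1 (by rw [h.sK.card_eq s₁, e, card_bot]))⟩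
  have gt := gt_of_comm hC.toNS sQ fun a ha b hb => h.toTP.symm.comm_two hD.le hD.toNS.noO DK s₁.le s₁.pgroup
    (h₁.symm.le_normalizer_fac hD) (k₁ ha) (k₁ hb)
  have cm : ∀ l ∈ L, ∀ s ∈ Q, l * s = s * l := fun l hl s hs => (h.toTP.comm (QK hs) (h.sL.le hl)).symm
  have ex : ∀ l : L, ∃ s : Q, ∀ a ∈ C, l * a * (l : G)⁻¹ = s * a * (s : G)⁻¹ := fun ⟨l, hl⟩ => by
    obtain ⟨n, hn⟩ := isPGroup_iff_mem.1 h.sL.pgroup l hl
    obtain ⟨s, hs, e⟩ := gt_inner gt sQ (nC hl) hn (fun s hs => by simp [cm l hl s hs]) fun v hv _ => cm l hl v hv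
    exact ⟨⟨s, hs⟩, e⟩
  choose f hf using ex
  refine big (Nat.card_le_card_of_injective f fun l m e => Subtype.ext (inv_mul_eq_one.1 (by_contra fun c =>
    CK fun a ha => h.toTP.mem_KK_of_comm (h.sL.le (mul_mem (inv_mem l.2) m.2)).1 c (hC.le ha) ?_)))
  have := hf l a ha
  rw [e, ← hf m a ha] at this
  calc _ = (l : G)⁻¹ * (l * a * (l : G)⁻¹) * m := by group
    _ = _ := by rw [this]; group

end CfsgLib.OTI2
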