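import Mathlib
import Cfsg.Agent.Lib.OTI2.TS
import Cfsg.Agent.Lib.OTI2.Sim
import Cfsg.Agent.Lib.Perm.GeomBlock

/-! TI normal subgroups of point stabilisers with two-point stabilisers of even order (package MAIN).  See `plans/OTI2.md`. -/

set_option autoImplicit false

namespace CfsgLib.OTI2

open Subgroup CfsgLib.Tech CfsgLib.Gold CfsgLib.Perm

universe u

section

variable {G X : Type u} [Group G] [Finite G] [MulAction G X] {N : X → Subgroup G} {x y : X}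

theorem stab_norm (h : StabTI N) {g : G} : g ∈ normalizer (N x : Set G) ↔ g • x = x := by
  refine ⟨fun hg => ?_, fun hg => mem_normalizer_of_forall fun n hn => h.toStabFam.conj' hg hn⟩
  by_contra hne
  obtain ⟨n, hn, h1, -⟩ := h.toStabFam.exists_ne_one (Ne.symm hne)
  have := h.ti hne (h.conj g hn) (conj_mem_of_mem_normalizer hg hn)
  exact h1 (by simpa [mul_inv_eq_iff_eq_mul] using this)

theorem stab_KK (h : StabTI N) {g : G} : g ∈ KK (N x) (N y) ↔ g ∈ N x ∧ g • y = y :=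
  and_congr_right fun _ => stab_norm h

theorem stab_tp (h : StabTI N) (hxy : x ≠ y) : TP (N x) (N y) := by
  refine ⟨fun e => ?_, ?_, fun g a ha h1 hg => (stab_norm h).2 ?_⟩
  · obtain ⟨n, hn, h1, -⟩ := h.toStabFam.exists_ne_one hxy
    exact h1 (h.ti hxy hn (e ▸ hn))
  · obtain ⟨g, rfl, -⟩ := h.two hxy hxy.symm
    refine ⟨g, le_antisymm (cj_le_iff.2 fun n hn => h.conj g hn) (le_cj_iff.2 fun n hn => ?_)⟩
    simpa using h.conj g⁻¹ hn
  · by_contra hne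
    exact h1 (by simpa [mul_inv_eq_iff_eq_mul] using h.ti hne (h.conj g ha) hg)

theorem stab_not_le (h : StabTI N) (hxy : x ≠ y) : ¬ N x ≤ KK (N x) (N y) := fun hle => by
  obtain ⟨n, hn, h1, -⟩ := h.toStabFam.exists_ne_one hxy
  refine h1 (h.faith n fun z => ?_)
  by_cases hz : x = z
  · exact hz ▸ h.fix hn
  obtain ⟨g, hg, rfl⟩ := h.two hxy hz
  have := ((stab_KK h).1 (hle (h.toStabFam.conj_inv hg hn))).2
  rwa [mul_smul, mul_smul, inv_smul_eq_iff] at this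

theorem stab_inner (h : StabTI N) (hxy : x ≠ y) (hs : NS (N x))
    (hev : ∃ k ∈ N x, k • y = y ∧ orderOf k = 2) :
    ∃ t ∈ N y, ∃ s ∈ N x, t • x = x ∧ orderOf s = 2 ∧ (∀ a ∈ N x, t * a * t⁻¹ = s * a * s⁻¹) ∧
      ∀ a ∈ N x, s * a = a * s ↔ a • y = y := by
  obtain ⟨k, hk, hky, h2⟩ := hev
  obtain ⟨K, L, hy⟩ := (stab_tp h hxy).exists_sy ⟨k, (stab_KK h).2 ⟨hk, hky⟩, h2⟩
  obtain ⟨⟨t, ht⟩, h1⟩ := ne_bot_iff_exists_ne_one.1 hy.symm.neK
  have h1 : t ≠ 1 := fun e => h1 (Subtype.ext e)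
  have hK := stab_not_le h hxy
  obtain ⟨s, hsK, e⟩ := hy.inner hs hK ht
  have ht' := (stab_KK h).1 (hy.sL.le ht)
  refine ⟨t, ht'.1, s, (hy.sK.le hsK).1, ht'.2, orderOf_eq_prime (by rw [sq, hy.elem hs hK hsK])
    fun e' => h1 (hy.toTP.eq_one_of_cent hK ht'.1 fun a ha => by rw [e a ha, e']; group), e,
    fun a ha => ⟨fun hc => ?_, fun hc => hy.central hs hK hsK ((stab_KK h).2 ⟨ha, hc⟩)⟩⟩
  refine h.fix_of_commute ht'.1 h1 ?_
  have := e a ha
  rw [hc, mul_inv_cancel_right] at this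
  exact (mul_inv_eq_iff_eq_mul.1 this).symm

end

theorem even {G X : Type u} [Group G] [Finite G] [Finite X] [MulAction G X] {N : X → Subgroup G}
    (h : CfsgLib.Perm.StabTI N) {x y : X} (hxy : x ≠ y)
    (hmin : ∀ R : Subgroup G, R ≤ N x → (∀ g : G, g • x = x → ∀ r ∈ R, g * r * g⁻¹ ∈ R) →
      R = ⊥ ∨ R = N x)
    (hev : ∃ k ∈ N x, k • y = y ∧ orderOf k = 2) : ∀ a ∈ N x, ∀ b ∈ N x, a * b = b * a := by
  by_contra hc
  have hc : ¬ IsMulCommutative (N x) := fun e => hc fun a ha b hb => mul_comm_of_comm e ha hb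
  have hsm : Semi (N x) := semi_of_min (H := MulAction.stabilizer G x) (fun n hn => h.fix hn)
    (fun g hg => (stab_norm h).2 hg)
    (fun R hR hn => hmin R hR fun g hg r hr => conj_mem_of_mem_normalizer (hn hg) hr) hc
  have hev' : ∀ z, x ≠ z → ∃ k ∈ N x, k • z = z ∧ orderOf k = 2 := fun z hz => by
    obtain ⟨k, hk, hky, h2⟩ := hev
    obtain ⟨g, hg, rfl⟩ := h.two hxy hz
    exact ⟨_, h.toStabFam.conj' hg hk, by rw [conj_smul_smul, hky],
      by rw [← h2]; exact (MulAut.conj g).orderOf_eq k⟩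
  obtain ⟨k, hk, hky, h2⟩ := hev
  obtain ⟨K, L, hy⟩ := (stab_tp h hxy).exists_sy ⟨k, (stab_KK h).2 ⟨hk, hky⟩, h2⟩
  have hs := hy.ns hsm (stab_not_le h hxy) (stab_not_le h hxy.symm)
  have hg := hy.gt hs (stab_not_le h hxy)
  obtain ⟨t, ht, s, hs1, htx, hs2, e, hcs⟩ := stab_inner h hxy hs (hev' y hxy)
  have hts : s⁻¹ * t = 1 := h.faith _ fun z => by
    by_cases hz : x = z
    · rw [← hz, mul_smul, htx, h.fix (inv_mem hs1)]
    obtain ⟨-, -, r, hr1, -, hr2, -, hcr⟩ := stab_inner h hz hs (hev' z hz)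
    obtain ⟨n, hn, rfl⟩ := gt_conj hg hs1 hr1 hs2 hr2
    have hb : n⁻¹ • z ∈ blk N x y := fun a ha hay => by
      have := (hcr _ (conj_mem_of_mem_normalizer (le_normalizer hn) ha)).1 (by
        calc n * s * n⁻¹ * (n * a * n⁻¹) = n * (s * a) * n⁻¹ := by group
          _ = n * a * n⁻¹ * (n * s * n⁻¹) := by rw [(hcs a ha).2 hay]; group)
      rwa [mul_smul, mul_smul, ← eq_inv_smul_iff] at this
    have h1 : (s⁻¹ * t) • n⁻¹ • z = n⁻¹ • z := by
      rw [mul_smul, h.fix_blk' hxy ht htx hb, hb _ (inv_mem hs1)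
        ((hcs _ (inv_mem hs1)).1 (by group))]
    have h2 : s⁻¹ * t * n⁻¹ = n⁻¹ * (s⁻¹ * t) := by
      calc s⁻¹ * t * n⁻¹ = s⁻¹ * (t * n⁻¹ * t⁻¹) * t := by group
        _ = n⁻¹ * (s⁻¹ * t) := by rw [e _ (inv_mem hn)]; group
    rwa [← mul_smul, h2, mul_smul, smul_left_cancel_iff] at h1
  have : s = 1 := h.ti hxy hs1 (inv_mul_eq_one.1 hts ▸ ht)
  simp [this] at hs2

end CfsgLib.OTI2
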